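import Cfsg.Agent.TimmesfeldTI.Field

/-!
# Fields from spreads in characteristic two, and the natural action of `SL₂`
-/

set_option autoImplicit false
set_option linter.unusedSectionVars false
set_option maxHeartbeats 1000000

namespace Cfsg.Agent.TimmesfeldTI

open Module
open scoped MatrixGroups

theorem exists_field_of_spread {A : Type*} [AddCommGroup A] [Module (ZMod 2) A] [Finite A] [Nontrivial A]
    (E : Submodule (ZMod 2) (Module.End (ZMod 2) A)) (hEcard : Nat.card E = Nat.card A) (h1E : 1 ∈ E)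
    (hEunit : ∀ x ∈ E, x ≠ 0 → IsUnit x)
    (hinvclosed : ∀ x ∈ E, x ≠ 0 → ∀ x', x' * x = 1 → x' ∈ E) :
    ∃ (K : Type) (_ : Field K) (_ : Fintype K) (θ : K →+* Module.End (ZMod 2) A),
      Nat.card K = Nat.card A ∧ ∀ x, x ∈ E ↔ ∃ k, θ k = x := by
  classical
  have htwo : ∀ x : Module.End (ZMod 2) A, x + x = 0 := fun x => by
    rw [← two_nsmul, ← Nat.cast_smul_eq_nsmul (ZMod 2), show ((2 : ℕ) : ZMod 2) = 0 from rfl, zero_smul]
  have hU' : ∀ x ∈ E, ∀ z ∈ E, x * z * x ∈ E := by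
    intro x hx z hz
    by_cases hx0 : x = 0
    · simp [hx0, E.zero_mem]
    by_cases hz0 : z = 0
    · simp [hz0, E.zero_mem]
    obtain ⟨x', hx'⟩ := hEunit x hx hx0
    obtain ⟨z', hz'⟩ := hEunit z hz hz0
    have hxi : (↑x'⁻¹ : Module.End (ZMod 2) A) ∈ E :=
      hinvclosed x hx hx0 _ (by rw [← hx', Units.inv_mul])
    have hzi : (↑z'⁻¹ : Module.End (ZMod 2) A) ∈ E :=
      hinvclosed z hz hz0 _ (by rw [← hz', Units.inv_mul])
    by_cases h1 : (↑z'⁻¹ : Module.End (ZMod 2) A) + x = 0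
    · have : x = ↑z'⁻¹ := by
        rw [eq_neg_of_add_eq_zero_right h1]
        exact neg_eq_of_add_eq_zero_left (htwo _)
      rw [this, ← hz', Units.inv_mul, one_mul]
      exact hzi
    obtain ⟨d, hd⟩ := hEunit _ (E.add_mem hzi hx) h1
    have hdi : (↑d⁻¹ : Module.End (ZMod 2) A) ∈ E :=
      hinvclosed _ (E.add_mem hzi hx) h1 _ (by rw [← hd, Units.inv_mul])
    have hne : (↑x'⁻¹ : Module.End (ZMod 2) A) + ↑d⁻¹ ≠ 0 := by
      intro e'
      have e2 : (↑x'⁻¹ : Module.End (ZMod 2) A) = ↑d⁻¹ := by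
        rw [eq_neg_of_add_eq_zero_left e']
        exact neg_eq_of_add_eq_zero_left (htwo _)
      have e3 : x'⁻¹ = d⁻¹ := Units.ext e2
      have e4 : (d : Module.End (ZMod 2) A) = x := by rw [← hx', inv_injective e3]
      rw [hd, add_eq_right] at e4
      exact z'⁻¹.ne_zero e4
    obtain ⟨k, hk⟩ := hEunit _ (E.add_mem hxi hdi) hne
    have hki : (↑k⁻¹ : Module.End (ZMod 2) A) ∈ E :=
      hinvclosed _ (E.add_mem hxi hdi) hne _ (by rw [← hk, Units.inv_mul])
    have e1 : (↑x' + ↑x' * ↑z' * ↑x' : Module.End (ZMod 2) A) * ↑k = 1 := by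
      rw [hk, hx', hz']
      have hzz : z * ↑z'⁻¹ = 1 := by rw [← hz', Units.mul_inv]
      have hxx : x * ↑x'⁻¹ = 1 := by rw [← hx', Units.mul_inv]
      have hdd : (↑z'⁻¹ + x) * ↑d⁻¹ = 1 := by rw [← hd, Units.mul_inv]
      have e5 : x * z * ((↑z'⁻¹ + x) * ↑d⁻¹) = x * ↑d⁻¹ + x * z * x * ↑d⁻¹ := by
        rw [← mul_assoc, mul_add, mul_assoc x z, hzz, mul_one, add_mul]
      rw [hdd, mul_one] at e5
      calc (x + x * z * x) * (↑x'⁻¹ + ↑d⁻¹)
          = x * ↑x'⁻¹ + x * z * (x * ↑x'⁻¹) + (x * ↑d⁻¹ + x * z * x * ↑d⁻¹) := by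
            simp only [mul_add, add_mul, mul_assoc]
        _ = 1 + (x * z + x * z) := by rw [hxx, mul_one, ← e5, add_assoc]
        _ = 1 := by rw [htwo, add_zero]
    have e2 : x + x * z * x = ↑k⁻¹ := by
      rw [← Units.eq_inv_of_mul_eq_one_right e1, hx', hz']
    have : x * z * x = ↑k⁻¹ + x := by rw [← e2, add_comm x, add_assoc, htwo, add_zero]
    rw [this]
    exact E.add_mem hki hx
  -- commutativity
  let n := finrank (ZMod 2) A
  have hAcard : Nat.card A = 2 ^ n := by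
    rw [Module.natCard_eq_pow_finrank (K := ZMod 2), Nat.card_zmod]
  let bas := Module.finBasisOfFinrankEq (ZMod 2) A (n := n) rfl
  let Φ := LinearMap.toMatrixAlgEquiv bas
  haveI : Finite (Module.End (ZMod 2) A) := Finite.of_injective Φ Φ.injective
  have hEfin : finrank (ZMod 2) E = n := by
    refine Nat.pow_right_injective (le_refl 2) ?_
    show 2 ^ finrank (ZMod 2) E = 2 ^ n
    rw [← hAcard, ← hEcard, Module.natCard_eq_pow_finrank (K := ZMod 2) (V := E), Nat.card_zmod]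
  have hcomm : ∀ x ∈ E, ∀ z ∈ E, x * z = z * x := by
    intro x hx z hz
    have := comm_of_invertible_space (E.map Φ.toLinearEquiv.toLinearMap)
      (by rw [LinearEquiv.finrank_map_eq]; exact hEfin) ⟨1, h1E, map_one Φ⟩
      (by
        rintro _ ⟨p, hp, rfl⟩ _ ⟨q, hq, rfl⟩
        exact ⟨p * q * p, hU' p hp q hq, by rw [show Φ.toLinearEquiv.toLinearMap (p * q * p) = Φ (p * q * p) from rfl, map_mul, map_mul]; rfl⟩)
      (by
        rintro _ ⟨p, hp, rfl⟩ hne
        exact (hEunit p hp fun e' => hne (by rw [e', map_zero])).map Φ)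
      _ ⟨x, hx, rfl⟩ _ ⟨z, hz, rfl⟩
    exact Φ.injective (by rw [map_mul, map_mul]; exact this)
  have hsq : ∀ x ∈ E, x * x ∈ E := fun x hx => by simpa using hU' x hx 1 h1E
  have hsurjsq : Function.Surjective (fun x : E => (⟨(x : Module.End (ZMod 2) A) * x, hsq _ x.2⟩ : E)) := by
    refine Finite.injective_iff_surjective.mp fun a b hab => ?_
    have e1 : (a : Module.End (ZMod 2) A) * a = b * b := congrArg Subtype.val hab
    by_contra hne
    have hne' : (a : Module.End (ZMod 2) A) + b ≠ 0 := fun e' => hne (Subtype.ext (by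
      rw [eq_neg_of_add_eq_zero_left e']; exact neg_eq_of_add_eq_zero_left (htwo _)))
    obtain ⟨u, hu⟩ := hEunit _ (E.add_mem a.2 b.2) hne'
    have e2 : ((a : Module.End (ZMod 2) A) + b) * (a + b) = 0 := by
      rw [mul_add, add_mul, add_mul, e1, hcomm _ b.2 _ a.2, add_assoc, add_comm ((a : Module.End (ZMod 2) A) * b) (b * b), ← add_assoc (a * b : Module.End (ZMod 2) A), add_comm (a * b : Module.End (ZMod 2) A) (b * b), add_assoc, htwo, add_zero, htwo]
    rw [← hu] at e2
    exact hne' (hu ▸ by simpa using e2)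
  have hmul : ∀ x ∈ E, ∀ z ∈ E, x * z ∈ E := by
    intro x hx z hz
    obtain ⟨⟨r, hr⟩, hr'⟩ := hsurjsq ⟨x, hx⟩
    have e1 : r * r = x := congrArg Subtype.val hr'
    rw [← e1, mul_assoc, hcomm r hr z hz, ← mul_assoc]
    exact hU' r hr z hz
  let S : Subring (Module.End (ZMod 2) A) :=
    { carrier := E
      one_mem' := h1E
      mul_mem' := fun {x z} hx hz => hmul x hx z hz
      zero_mem' := E.zero_mem
      add_mem' := fun {x z} hx hz => E.add_mem hx hz
      neg_mem' := fun {x} hx => E.neg_mem hx }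
  letI : CommRing S :=
    { (inferInstance : Ring S) with mul_comm := fun a b => Subtype.ext (hcomm a a.2 b b.2) }
  haveI : Nontrivial S := ⟨0, 1, fun e' => zero_ne_one (congrArg Subtype.val e')⟩
  haveI : NoZeroDivisors S := ⟨fun {a b} hab => by
    by_contra hn
    push Not at hn
    obtain ⟨u, hu⟩ := hEunit a a.2 fun e' => hn.1 (Subtype.ext e')
    have h0 : (u : Module.End (ZMod 2) A) * b = 0 := hu ▸ congrArg Subtype.val hab
    exact hn.2 (Subtype.ext (by simpa using h0))⟩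
  haveI : IsDomain S := NoZeroDivisors.to_isDomain _
  letI : Fintype S := Fintype.ofFinite S
  letI : Field S := Fintype.fieldOfDomain S
  have hn0 : n ≠ 0 := (Module.finrank_pos (R := ZMod 2) (M := A)).ne'
  let K := GaloisField 2 n
  letI : Fintype K := Fintype.ofFinite K
  have hKcard : Nat.card K = Nat.card A := by rw [GaloisField.card 2 n hn0, hAcard]
  let σ : K ≃+* S := FiniteField.ringEquivOfCardEq (by
    rw [← Nat.card_eq_fintype_card, ← Nat.card_eq_fintype_card, hKcard, ← hEcard]; rfl)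
  let θ : K →+* Module.End (ZMod 2) A := S.subtype.comp σ.toRingHom
  have hθE : ∀ x, θ x ∈ E := fun x => (σ x).2
  have hθsurj : ∀ x ∈ E, ∃ k, θ k = x := fun x hx =>
    ⟨σ.symm ⟨x, hx⟩, congrArg Subtype.val (σ.apply_symm_apply _)⟩
  exact ⟨K, inferInstance, inferInstance, θ, hKcard, fun x =>
    ⟨hθsurj x, fun ⟨k, hk⟩ => hk ▸ hθE k⟩⟩

theorem exists_sl_perm {K : Type} [CommRing K] {X : Type*} (μ : (Fin 2 → K) ≃ X) :
    ∃ Ψ : SL(2, K) →* Equiv.Perm X, Function.Injective Ψ ∧
      ∀ (s : SL(2, K)) (v : Fin 2 → K), Ψ s (μ v) = μ ((s : Matrix (Fin 2) (Fin 2) K).mulVec v) := by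
  let Ψ : SL(2, K) →* Equiv.Perm X :=
    { toFun := fun s => μ.permCongr (Matrix.SpecialLinearGroup.toLin' s).toEquiv
      map_one' := Equiv.ext fun t => by simp
      map_mul' := fun s r => Equiv.ext fun t => by simp }
  have hΨ : ∀ (s : SL(2, K)) (v : Fin 2 → K), Ψ s (μ v) = μ ((s : Matrix (Fin 2) (Fin 2) K).mulVec v) :=
    fun s v => by simp [Ψ, Matrix.SpecialLinearGroup.toLin'_apply, Equiv.permCongr_apply]
  refine ⟨Ψ, fun s r hsr => Subtype.ext (Matrix.ext_of_mulVec_single fun i => ?_), hΨ⟩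
  have := congrArg (fun p : Equiv.Perm _ => p (μ (Pi.single i 1))) hsr
  simp only [hΨ] at this
  exact μ.injective this

theorem transvection_mulVec_upper {K : Type} [CommRing K] (h : (0 : Fin 2) ≠ 1) (k : K) (v : Fin 2 → K) :
    ((Matrix.SpecialLinearGroup.transvection h k : SL(2, K)) : Matrix (Fin 2) (Fin 2) K).mulVec v =
      ![v 0 + k * v 1, v 1] := by
  funext i
  fin_cases i <;>
    simp [Matrix.SpecialLinearGroup.transvection_coe, Matrix.mulVec, dotProduct, Fin.sum_univ_two,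
      Matrix.single]

theorem transvection_mulVec_lower {K : Type} [CommRing K] (h : (1 : Fin 2) ≠ 0) (k : K) (v : Fin 2 → K) :
    ((Matrix.SpecialLinearGroup.transvection h k : SL(2, K)) : Matrix (Fin 2) (Fin 2) K).mulVec v =
      ![v 0, k * v 0 + v 1] := by
  funext i
  fin_cases i <;>
    simp [Matrix.SpecialLinearGroup.transvection_coe, Matrix.mulVec, dotProduct, Fin.sum_univ_two,
      Matrix.single]

theorem exists_conj_perm {G : Type*} [Group G] (H W : Subgroup G)
    (hH : H ≤ Subgroup.normalizer (W : Set G)) :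
    ∃ χ : ↥H →* Equiv.Perm ↥W,
      χ.ker = (Subgroup.centralizer (W : Set G)).subgroupOf H ∧
      ∀ (x : ↥H) (t : ↥W), ((χ x t : ↥W) : G) = (x : G) * t * (x : G)⁻¹ := by
  let χ : ↥H →* Equiv.Perm ↥W :=
    { toFun := fun x =>
        { toFun := fun t => ⟨(x : G) * t * (x : G)⁻¹, (Subgroup.mem_normalizer_iff.mp (hH x.2) _).mp t.2⟩
          invFun := fun t => ⟨(x : G)⁻¹ * t * x, (Subgroup.mem_normalizer_iff''.mp (hH x.2) _).mp t.2⟩
          left_inv := fun t => Subtype.ext (by simp [mul_assoc])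
          right_inv := fun t => Subtype.ext (by simp [mul_assoc]) }
      map_one' := Equiv.ext fun t => Subtype.ext (by simp)
      map_mul' := fun x z => Equiv.ext fun t => Subtype.ext (by simp [mul_assoc]) }
  refine ⟨χ, ?_, fun _ _ => rfl⟩
  ext x
  rw [MonoidHom.mem_ker, Subgroup.mem_subgroupOf, Subgroup.mem_centralizer_iff]
  constructor
  · intro hx t ht
    have h1 : (x : G) * t * (x : G)⁻¹ = t :=
      congrArg Subtype.val (congrArg (fun p : Equiv.Perm _ => p ⟨t, ht⟩) hx)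
    exact (mul_inv_eq_iff_eq_mul.mp h1).symm
  · exact fun hx => Equiv.ext fun t => Subtype.ext
      (mul_inv_eq_iff_eq_mul.mpr (hx t t.2).symm)

end Cfsg.Agent.TimmesfeldTI
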