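import Cfsg.Agent.TimmesfeldTI.Absorb
import Cfsg.Agent.TimmesfeldTI.Spread
import Cfsg.Agent.Classical.LinearBasic
import Cfsg.Agent.Core.Solvable
import Cfsg.Agent.Core.Frattini
import Cfsg.Agent.Fusion.Critical

/-!
# The group generated by the two parts acts as `SL₂(q)` on `V U`
-/

set_option autoImplicit false
set_option linter.unusedSectionVars false
set_option maxHeartbeats 2000000

namespace Cfsg.Agent.TimmesfeldTI

open Subgroup Module
open scoped MatrixGroups

universe u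

variable {G : Type u} [Group G] [Finite G] {V U : Subgroup G}

theorem Pair.sup_part_le (h : Pair V U) :
    part V ⊔ part U ≤ normalizer ((V ⊔ U : Subgroup G) : Set G) := by
  have key : ∀ {A B : Subgroup G}, Pair A B → part A ≤ normalizer ((A ⊔ B : Subgroup G) : Set G) := by
    intro A B hAB
    refine Subgroup.le_normalizer_iff.mpr fun p hp t ht => ?_
    obtain ⟨a, ha, b, hb, rfl⟩ := hAB.mem_sup_iff.mp ht
    rw [show p * (a * b) * p⁻¹ = (p * a * p⁻¹) * ((p * b * p⁻¹ * b⁻¹) * b) by group]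
    refine mul_mem (mem_sup_left ?_) (mul_mem (mem_sup_left ?_) (mem_sup_right hb))
    · rw [hAB.good.part_central hp ha, mul_inv_cancel_right]; exact ha
    · exact hAB.good.commutator_mem hp (hAB.le_part hb)
  exact sup_le (key h) (by rw [sup_comm]; exact key h.symm)

/-- The field model. -/
theorem Pair.recognise (h : Pair V U) :
    ∃ (K : Type) (_ : Field K) (_ : Fintype K), Fintype.card K = Nat.card V ∧
      core V = part V ∧
      ∀ hN : ((centralizer ((V ⊔ U : Subgroup G) : Set G)).subgroupOf (part V ⊔ part U)).Normal,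
        Nonempty ((↥(part V ⊔ part U) ⧸
          (centralizer ((V ⊔ U : Subgroup G) : Set G)).subgroupOf (part V ⊔ part U)) ≃*
            Matrix.SpecialLinearGroup (Fin 2) K) := by
  classical
  have hs := h.symm
  obtain ⟨U₂, h₂, hnc⟩ := h.exists_noncomm
  obtain ⟨y0, hy0, hy01⟩ := h₂.exists_ne_one
  have hy0P := h₂.le_part hy0
  have hy0C : y0 ∉ fixPart V U := fun hm => by
    obtain ⟨u, hu, u₂, hu₂, hne⟩ := hnc
    exact hy01 (h.disjoint_partner h₂ hu hu₂ hne hm hy0)
  letI : CommGroup ↥U :=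
    { (inferInstance : Group ↥U) with mul_comm := fun a b => Subtype.ext (h.goodU.comm a a.2 b b.2) }
  letI : Module (ZMod 2) (Additive ↥U) := AddCommGroup.zmodModule fun a => by
    rw [two_nsmul]
    exact congrArg Additive.ofMul (Subtype.ext (h.goodU.sq (Additive.toMul a : ↥U) (Additive.toMul a).2) :
      (Additive.toMul a) * (Additive.toMul a) = (1 : ↥U))
  haveI : Finite (Additive ↥U) := inferInstanceAs (Finite ↥U)
  let cy : ↥(part V) → (↥U →* ↥V) := fun y =>
    { toFun := fun w => ⟨_, h.good.commutator_mem y.2 (h.le_part w.2)⟩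
      map_one' := Subtype.ext (by simp)
      map_mul' := fun w w' => Subtype.ext (h.good.comm_mul y.2 (h.le_part w.2) (h.le_part w'.2)) }
  have hker : ∀ (y : ↥(part V)), (y : G) ∉ fixPart V U → Function.Injective (cy y) := by
    intro y hy
    rw [injective_iff_map_eq_one]
    intro w hw
    by_contra hw1
    exact hy (h.mem_fixPart y.2 w.2 (fun e => hw1 (Subtype.ext e))
      (mul_inv_eq_iff_eq_mul.mp (mul_inv_eq_one.mp (congrArg Subtype.val hw))))
  let ι : ↥U ≃* ↥V := MulEquiv.ofBijective (cy ⟨y0, hy0P⟩)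
    ((Nat.bijective_iff_injective_and_card _).mpr ⟨hker ⟨y0, hy0P⟩ hy0C, h.card_eq⟩)
  let e : ↥(part V) → Module.End (ZMod 2) (Additive ↥U) := fun y =>
    (MonoidHom.toAdditive (ι.symm.toMonoidHom.comp (cy y))).toZModLinearMap 2
  have he : ∀ (y : ↥(part V)) (w : ↥U),
      ((ι (Additive.toMul (e y (Additive.ofMul w))) : ↥V) : G) =
        (y : G) * w * (y : G)⁻¹ * (w : G)⁻¹ := fun y w =>
    congrArg Subtype.val (ι.apply_symm_apply (cy y w))
  have he_mul : ∀ y y' : ↥(part V), e (y * y') = e y + e y' := by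
    intro y y'
    refine LinearMap.ext fun w => ?_
    show Additive.ofMul (ι.symm (cy (y * y') (Additive.toMul w))) =
      Additive.ofMul (ι.symm (cy y (Additive.toMul w))) + Additive.ofMul (ι.symm (cy y' (Additive.toMul w)))
    rw [← ofMul_mul, ← map_mul]
    congr 2
    exact Subtype.ext (h.good.comm_mul' y.2 y'.2 (h.le_part (Additive.toMul w).2))
  have he_one : e 1 = 0 := by
    refine LinearMap.ext fun w => ?_
    show Additive.ofMul (ι.symm (cy 1 (Additive.toMul w))) = (0 : Additive ↥U)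
    rw [show cy 1 (Additive.toMul w) = 1 from Subtype.ext (by simp [cy]), map_one]
    rfl
  let eH : Additive ↥(part V) →+ Module.End (ZMod 2) (Additive ↥U) :=
    { toFun := fun y => e (Additive.toMul y)
      map_zero' := he_one
      map_add' := fun y y' => he_mul _ _ }
  let E : Submodule (ZMod 2) (Module.End (ZMod 2) (Additive ↥U)) :=
    AddSubgroup.toZModSubmodule 2 eH.range
  have hEmem : ∀ x, x ∈ E ↔ ∃ y, e y = x := fun x =>
    ⟨fun ⟨y, hy⟩ => ⟨Additive.toMul y, hy⟩, fun ⟨y, hy⟩ => ⟨Additive.ofMul y, hy⟩⟩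
  have he0 : ∀ y : ↥(part V), (y : G) ∈ fixPart V U → e y = 0 := by
    intro y hy
    refine LinearMap.ext fun w => ?_
    show Additive.ofMul (ι.symm (cy y (Additive.toMul w))) = (0 : Additive ↥U)
    have : cy y (Additive.toMul w) = 1 := Subtype.ext (by
      show (y : G) * _ * _ * _ = 1
      rw [← mem_centralizer_iff.mp hy.2 _ (Additive.toMul w).2, mul_inv_cancel_right, mul_inv_cancel])
    rw [this, map_one]
    rfl
  have hbij : ∀ y : ↥(part V), (y : G) ∉ fixPart V U → Function.Bijective (e y) := fun y hy =>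
    Finite.injective_iff_bijective.mp fun a b hab =>
      Additive.toMul.injective (hker y hy (ι.symm.injective (congrArg Additive.toMul hab)))
  have h1E : (1 : Module.End (ZMod 2) (Additive ↥U)) ∈ E :=
    (hEmem _).mpr ⟨⟨y0, hy0P⟩, LinearMap.ext fun w => congrArg Additive.ofMul (ι.symm_apply_apply _)⟩
  have hunit : ∀ x ∈ E, x ≠ 0 → Function.Bijective x := by
    intro x hx hx0
    obtain ⟨y, rfl⟩ := (hEmem x).mp hx
    exact hbij y fun hm => hx0 (he0 y hm)
  have hEcard : Nat.card E = Nat.card (Additive ↥U) := by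
    let r : ↥U₂ → ↥E := fun y => ⟨e ⟨y, h₂.le_part y.2⟩, (hEmem _).mpr ⟨_, rfl⟩⟩
    have hr : Function.Bijective r := by
      refine ⟨fun s t hst => ?_, fun ⟨x, hx⟩ => ?_⟩
      · have e1 : e ⟨(s : G) * t, h₂.le_part (mul_mem s.2 t.2)⟩ = 0 := by
          have e2 : e ⟨s, h₂.le_part s.2⟩ = e ⟨t, h₂.le_part t.2⟩ := congrArg Subtype.val hst
          rw [show (⟨(s : G) * t, h₂.le_part (mul_mem s.2 t.2)⟩ : ↥(part V)) =
            ⟨s, h₂.le_part s.2⟩ * ⟨t, h₂.le_part t.2⟩ from rfl, he_mul, e2]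
          refine LinearMap.ext fun w => ?_
          show _ + _ = (0 : Additive ↥U)
          rw [← two_nsmul, ← Nat.cast_smul_eq_nsmul (ZMod 2)]
          rw [show ((2 : ℕ) : ZMod 2) = 0 from rfl, zero_smul]
        by_contra hne
        have hst1 : (s : G) * t ≠ 1 := fun e'' =>
          hne (Subtype.ext (by rw [eq_inv_of_mul_eq_one_left e'', h₂.goodU.inv_eq t.2]))
        obtain ⟨u, hu, u₂, hu₂, hn⟩ := hnc
        refine hst1 (h.disjoint_partner h₂ hu hu₂ hn ?_ (mul_mem s.2 t.2))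
        by_contra hm
        have := (hbij ⟨(s : G) * t, h₂.le_part (mul_mem s.2 t.2)⟩ hm).1
        obtain ⟨w, hw, hw1⟩ := h.exists_ne_one
        refine hw1 (congrArg (fun z : Additive ↥U => ((Additive.toMul z : ↥U) : G))
          (this (show e _ (Additive.ofMul ⟨w, hw⟩) = e _ 0 by rw [e1]; rfl)))
      · obtain ⟨y, rfl⟩ := (hEmem x).mp hx
        obtain ⟨u, hu, hup⟩ := h.decompose h₂ hnc y.2
        refine ⟨⟨u, hu⟩, Subtype.ext ?_⟩
        show e ⟨u, h₂.le_part hu⟩ = e y
        have h0 := he0 ⟨u * y, mul_mem (h₂.le_part hu) y.2⟩ hup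
        rw [show (⟨u * (y : G), mul_mem (h₂.le_part hu) y.2⟩ : ↥(part V)) =
          ⟨u, h₂.le_part hu⟩ * y from rfl, he_mul] at h0
        rw [eq_neg_of_add_eq_zero_left h0]
        refine LinearMap.ext fun w => ?_
        show - (e y w) = e y w
        refine neg_eq_of_add_eq_zero_left ?_
        rw [← two_nsmul, ← Nat.cast_smul_eq_nsmul (ZMod 2), show ((2 : ℕ) : ZMod 2) = 0 from rfl,
          zero_smul]
    rw [← Nat.card_congr (Equiv.ofBijective r hr), h₂.card_eq, ← h.card_eq]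
    rfl
  -- the operators coming from the other part
  let f : ↥(part U) → Module.End (ZMod 2) (Additive ↥U) := fun a =>
    (MonoidHom.toAdditive
      { toFun := fun w => (⟨_, hs.good.commutator_mem a.2 (hs.le_part (ι w).2)⟩ : ↥U)
        map_one' := Subtype.ext (by simp)
        map_mul' := fun w w' => Subtype.ext (by
          show (a : G) * ((ι (w * w') : ↥V) : G) * _ * _ = _
          rw [map_mul]
          exact hs.good.comm_mul a.2 (hs.le_part (ι w).2) (hs.le_part (ι w').2)) }).toZModLinearMap 2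
  have hf : ∀ (a : ↥(part U)) (w : ↥U), ((Additive.toMul (f a (Additive.ofMul w)) : ↥U) : G) =
      (a : G) * ((ι w : ↥V) : G) * (a : G)⁻¹ * ((ι w : ↥V) : G)⁻¹ := fun _ _ => rfl
  -- conjugates of `V` are graphs
  have hgraph : ∀ (y : ↥(part V)) (w : ↥U),
      ((ι (Additive.toMul (e y (Additive.ofMul w))) : ↥V) : G) * (w : G) ∈ conjS U y := by
    intro y w
    rw [mem_conjS, he]
    simp [mul_assoc]
  have hgraphV : ∀ (a : ↥(part U)) (w : ↥U),
      ((ι w : ↥V) : G) * ((Additive.toMul (f a (Additive.ofMul w)) : ↥U) : G) ∈ conjS V a := by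
    intro a w
    rw [h.comm (ι w).2 (Additive.toMul (f a (Additive.ofMul w))).2, hf, inv_mul_cancel_right, mem_conjS]
    simp [mul_assoc]
  have heq_conj : ∀ (X Y : Subgroup G), (∃ g, X = conjS V g) → (∃ g, Y = conjS V g) →
      ∀ t ∈ X, t ∈ Y → t ≠ 1 → X = Y := by
    rintro X Y ⟨g, rfl⟩ ⟨k, rfl⟩ t htX htY ht1
    rcases h.good.ti (k⁻¹ * g) with e' | e'
    · calc conjS V g = conjS (conjS V (k⁻¹ * g)) k := by rw [conjS_mul]; congr 1; group
        _ = conjS V k := by rw [e']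
    · exfalso
      refine ht1 ?_
      have : k⁻¹ * t * k = 1 := by
        refine Subgroup.mem_bot.mp (e' ▸ mem_inf.mpr ⟨?_, mem_conjS.mp htY⟩)
        rw [mem_conjS]
        have := mem_conjS.mp htX
        simpa [mul_assoc] using this
      have := congrArg (fun z => k * z * k⁻¹) this
      simpa [mul_assoc] using this
  have hUconj : ∀ y, ∃ g, conjS U y = conjS V g := fun y => by
    obtain ⟨g, hg⟩ := h.isConj
    exact ⟨y * g, by rw [hg, conjS_mul]⟩
  have huniq : ∀ {v v' : ↥V} {w w' : ↥U}, (v : G) * w = v' * w' → v = v' ∧ w = w' := by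
    intro v v' w w' heq
    have h1 : (v' : G)⁻¹ * v = w' * (w : G)⁻¹ := by
      calc (v' : G)⁻¹ * v = (v' : G)⁻¹ * (v * w) * (w : G)⁻¹ := by group
        _ = (v' : G)⁻¹ * (v' * w') * (w : G)⁻¹ := by rw [heq]
        _ = _ := by group
    have h2 : (v' : G)⁻¹ * v = 1 :=
      h.eq_one (h1 ▸ mul_mem w'.2 (inv_mem w.2)) (mul_mem (inv_mem v'.2) v.2)
    have h3 : v = v' := Subtype.ext (inv_mul_eq_one.mp h2).symm
    exact ⟨h3, Subtype.ext (mul_left_cancel (h3 ▸ heq))⟩
  have hne_ex : ∃ w : ↥U, w ≠ 1 := by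
    obtain ⟨w, hw, hw1⟩ := h.exists_ne_one
    exact ⟨⟨w, hw⟩, fun e' => hw1 (congrArg Subtype.val e')⟩
  haveI hntA : Nontrivial (Additive ↥U) := by
    obtain ⟨w, hw⟩ := hne_ex
    exact ⟨Additive.ofMul w, 0, fun e' => hw e'⟩
  have hinvE : ∀ y : ↥(part V), e y ≠ 0 → ∃ a, f a * e y = 1 := by
    intro y hy
    have hyC : (y : G) ∉ fixPart V U := fun hm => hy (he0 y hm)
    obtain ⟨w, hw⟩ := hne_ex
    obtain ⟨v, hv⟩ : ∃ v, v = ι (Additive.toMul (e y (Additive.ofMul w))) := ⟨_, rfl⟩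
    have hv1 : (v : G) ≠ 1 := by
      intro e'
      rw [hv, he] at e'
      exact hw (hker y hyC (a₂ := 1) (by rw [map_one]; exact Subtype.ext e'))
    obtain ⟨a, ha, hmem⟩ := hs.cover w.2 v.2 hv1
    rw [← h.comm v.2 w.2] at hmem
    have hXY : conjS U y = conjS V a := by
      refine heq_conj _ _ (hUconj y) ⟨a, rfl⟩ _ (hv ▸ hgraph y w) hmem ?_
      intro e'
      exact hw (huniq (v := v) (v' := 1) (w := w) (w' := 1) (by simpa using e')).2
    refine ⟨⟨a, ha⟩, LinearMap.ext fun w' => ?_⟩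
    obtain ⟨w', rfl⟩ := Additive.ofMul.surjective w'
    obtain ⟨t, htdef⟩ : ∃ t, t = ((ι (Additive.toMul (e y (Additive.ofMul w'))) : ↥V) : G) * (w' : G) :=
      ⟨_, rfl⟩
    have ht : t ∈ conjS V a := by rw [htdef, ← hXY]; exact hgraph y w'
    obtain ⟨u, hu⟩ : ∃ u : ↥U, ι u = ⟨a⁻¹ * t * a, mem_conjS.mp ht⟩ := ι.surjective _
    have h2 : ((ι u : ↥V) : G) * ((Additive.toMul (f ⟨a, ha⟩ (Additive.ofMul u)) : ↥U) : G) = t := by
      rw [h.comm (ι u).2 (Additive.toMul (f ⟨a, ha⟩ (Additive.ofMul u))).2, hf, inv_mul_cancel_right, hu]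
      simp [mul_assoc]
    obtain ⟨e1, e2⟩ := huniq (h2.trans htdef)
    have e3 : u = Additive.toMul (e y (Additive.ofMul w')) := ι.injective e1
    show f ⟨a, ha⟩ (e y (Additive.ofMul w')) = Additive.ofMul w'
    rw [← ofMul_toMul (e y (Additive.ofMul w')), ← e3, ← e2, ofMul_toMul]
  have hinvF : ∀ a : ↥(part U), f a ≠ 0 → ∃ y, e y * f a = 1 := by
    intro a ha
    obtain ⟨w, hw⟩ : ∃ w : ↥U, f a (Additive.ofMul w) ≠ 0 := by
      by_contra hall
      push Not at hall
      exact ha (LinearMap.ext fun w => hall (Additive.toMul w))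
    obtain ⟨u, hu⟩ : ∃ u, u = Additive.toMul (f a (Additive.ofMul w)) := ⟨_, rfl⟩
    have hu1 : (u : G) ≠ 1 := fun e' => hw (by
      rw [← ofMul_toMul (f a (Additive.ofMul w)), ← hu, show u = 1 from Subtype.ext e']; rfl)
    obtain ⟨y, hy, hmem⟩ := h.cover (ι w).2 u.2 hu1
    have hXY : conjS V (a : G) = conjS U y := by
      refine heq_conj _ _ ⟨a, rfl⟩ (hUconj y) _ (hu ▸ hgraphV a w) hmem ?_
      intro e'
      exact hu1 (congrArg Subtype.val (huniq (v := ι w) (v' := 1) (w := u) (w' := 1) (by simpa using e')).2)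
    refine ⟨⟨y, hy⟩, LinearMap.ext fun w' => ?_⟩
    obtain ⟨w', rfl⟩ := Additive.ofMul.surjective w'
    obtain ⟨t, htdef⟩ : ∃ t, t = ((ι w' : ↥V) : G) * ((Additive.toMul (f a (Additive.ofMul w')) : ↥U) : G) :=
      ⟨_, rfl⟩
    have ht : t ∈ conjS U y := by rw [htdef, ← hXY]; exact hgraphV a w'
    obtain ⟨s, hs'⟩ : ∃ s : ↥U, (s : G) = y⁻¹ * t * y := ⟨⟨_, mem_conjS.mp ht⟩, rfl⟩
    have h2 : ((ι (Additive.toMul (e ⟨y, hy⟩ (Additive.ofMul s))) : ↥V) : G) * (s : G) = t := by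
      rw [he, inv_mul_cancel_right, hs']
      simp [mul_assoc]
    obtain ⟨e1, e2⟩ := huniq (h2.trans htdef)
    show e ⟨y, hy⟩ (f a (Additive.ofMul w')) = Additive.ofMul w'
    rw [← ofMul_toMul (f a (Additive.ofMul w')), ← e2, ← ofMul_toMul (e ⟨y, hy⟩ (Additive.ofMul s)),
      ι.injective e1]
  -- the spread is invariant under the second part
  have hX : ∀ (a : ↥(part U)) (y : ↥(part V)), Function.Injective ⇑((1 : Module.End (ZMod 2) (Additive ↥U)) + f a * e y) →
      ∃ y', e y = e y' * (1 + f a * e y) := by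
    intro a y hinj
    obtain ⟨w, hw⟩ := hne_ex
    have hmem : ∀ w' : ↥U, ((ι (Additive.toMul (e y (Additive.ofMul w'))) : ↥V) : G) *
        ((Additive.toMul ((1 + f a * e y) (Additive.ofMul w')) : ↥U) : G) ∈
          conjS (conjS U y) (a : G) := by
      intro w'
      rw [mem_conjS]
      obtain ⟨v, hv⟩ : ∃ v, v = ι (Additive.toMul (e y (Additive.ofMul w'))) := ⟨_, rfl⟩
      obtain ⟨q, hq⟩ : ∃ q, q = Additive.toMul (f a (Additive.ofMul (Additive.toMul (e y (Additive.ofMul w'))))) :=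
        ⟨_, rfl⟩
      have e1 : Additive.toMul ((1 + f a * e y) (Additive.ofMul w')) = w' * q := by
        rw [hq]; rfl
      rw [e1, ← hv]
      have hq' : (q : G) = (a : G) * v * (a : G)⁻¹ * (v : G)⁻¹ := by rw [hq, hf, ← hv]
      have haw : (a : G) * (w' : G) = w' * a := hs.good.part_central a.2 w'.2
      have : (a : G)⁻¹ * ((v : G) * ((w' * q : ↥U) : G)) * a = v * w' := by
        calc (a : G)⁻¹ * ((v : G) * ((w' * q : ↥U) : G)) * a
            = (a : G)⁻¹ * ((v : G) * q * w') * a := by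
              rw [show ((w' * q : ↥U) : G) = (q : G) * w' from by
                rw [Subgroup.coe_mul, h.goodU.comm _ w'.2 _ q.2], mul_assoc (v : G)]
          _ = (a : G)⁻¹ * ((q : G) * v * w') * a := by rw [h.comm v.2 q.2]
          _ = v * ((a : G)⁻¹ * ((w' : G) * a)) := by rw [hq']; group
          _ = v * w' := by rw [← haw, inv_mul_cancel_left]
      rw [this, hv]
      exact hgraph y w'
    obtain ⟨u, hu⟩ : ∃ u, u = Additive.toMul ((1 + f a * e y) (Additive.ofMul w)) := ⟨_, rfl⟩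
    have hu1 : (u : G) ≠ 1 := fun e' => hw (Additive.ofMul.injective (hinj (a₂ := Additive.ofMul 1) (by
      rw [← ofMul_toMul ((1 + f a * e y) (Additive.ofMul w)), ← hu, show u = 1 from Subtype.ext e',
        ofMul_one, map_zero])))
    obtain ⟨v, hv⟩ : ∃ v, v = ι (Additive.toMul (e y (Additive.ofMul w))) := ⟨_, rfl⟩
    obtain ⟨y', hy', hmem'⟩ := h.cover v.2 u.2 hu1
    have hXY : conjS (conjS U y) (a : G) = conjS U y' := by
      obtain ⟨g, hg⟩ := hUconj y
      refine heq_conj _ _ ⟨a * g, by rw [hg, conjS_mul]⟩ (hUconj y') _ (hv ▸ hu ▸ hmem w) hmem' ?_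
      intro e'
      exact hu1 (congrArg Subtype.val (huniq (v := v) (v' := 1) (w := u) (w' := 1) (by simpa using e')).2)
    refine ⟨⟨y', hy'⟩, LinearMap.ext fun w' => ?_⟩
    obtain ⟨w', rfl⟩ := Additive.ofMul.surjective w'
    obtain ⟨t, htdef⟩ : ∃ t, t = ((ι (Additive.toMul (e y (Additive.ofMul w'))) : ↥V) : G) *
        ((Additive.toMul ((1 + f a * e y) (Additive.ofMul w')) : ↥U) : G) := ⟨_, rfl⟩
    have ht : t ∈ conjS U y' := by rw [htdef, ← hXY]; exact hmem w'
    obtain ⟨s, hs'⟩ : ∃ s : ↥U, (s : G) = y'⁻¹ * t * y' := ⟨⟨_, mem_conjS.mp ht⟩, rfl⟩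
    have h2 : ((ι (Additive.toMul (e ⟨y', hy'⟩ (Additive.ofMul s))) : ↥V) : G) * (s : G) = t := by
      rw [he, inv_mul_cancel_right, hs']
      simp [mul_assoc]
    obtain ⟨e1, e2⟩ := huniq (h2.trans htdef)
    show e y (Additive.ofMul w') = e ⟨y', hy'⟩ ((1 + f a * e y) (Additive.ofMul w'))
    rw [← ofMul_toMul ((1 + f a * e y) (Additive.ofMul w')), ← e2,
      ← ofMul_toMul (e y (Additive.ofMul w')), ← ι.injective e1, ofMul_toMul]
  have htwo : ∀ x : Module.End (ZMod 2) (Additive ↥U), x + x = 0 := fun x => by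
    rw [← two_nsmul, ← Nat.cast_smul_eq_nsmul (ZMod 2), show ((2 : ℕ) : ZMod 2) = 0 from rfl, zero_smul]
  have hEunit : ∀ x ∈ E, x ≠ 0 → IsUnit x := fun x hx hx0 =>
    (Module.End.isUnit_iff x).mpr (hunit x hx hx0)
  have hinvclosed : ∀ x ∈ E, x ≠ 0 → ∀ x', x' * x = 1 → x' ∈ E := by
    intro x hx hx0 x' hx'
    by_cases hx1 : x = 1
    · rw [hx1, mul_one] at hx'; exact hx' ▸ h1E
    obtain ⟨g, hg⟩ : ∃ g, g = x + 1 := ⟨_, rfl⟩
    have hgE : g ∈ E := hg ▸ E.add_mem hx h1E
    have hg0 : g ≠ 0 := by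
      intro e'
      refine hx1 ?_
      calc x = g + 1 := by rw [hg, add_assoc, htwo, add_zero]
        _ = 1 := by rw [e', zero_add]
    obtain ⟨y, hy⟩ := (hEmem g).mp hgE
    obtain ⟨a, ha⟩ := hinvE y (hy.symm ▸ hg0)
    rw [hy] at ha
    obtain ⟨y1, hy1⟩ := (hEmem 1).mp h1E
    have hfx : 1 + f a * e y1 = f a * x := by
      rw [hy1, mul_one, show x = g + 1 by rw [hg, add_assoc, htwo, add_zero], mul_add, ha, mul_one]
    have hga : g * f a = 1 := by
      obtain ⟨u, hu⟩ := hEunit g hgE hg0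
      have : f a = ↑u⁻¹ := Units.eq_inv_of_mul_eq_one_right (hu ▸ ha)
      rw [this, ← hu, Units.mul_inv]
    have hinj : Function.Injective ⇑((1 : Module.End (ZMod 2) (Additive ↥U)) + f a * e y1) := by
      rw [hfx]
      intro p q hpq
      refine (hunit x hx hx0).1 ?_
      have := congrArg g hpq
      rwa [← Module.End.mul_apply, ← Module.End.mul_apply, ← mul_assoc, hga, one_mul] at this
    obtain ⟨y', hy'⟩ := hX a y1 hinj
    rw [hy1, show (1 + f a * 1 : Module.End (ZMod 2) (Additive ↥U)) = f a * x by rw [← hfx, hy1]] at hy'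
    have hxu : x * x' = 1 := by
      obtain ⟨u, hu⟩ := hEunit x hx hx0
      have : x' = ↑u⁻¹ := Units.eq_inv_of_mul_eq_one_right (hu ▸ hx')
      rw [this, ← hu, Units.mul_inv]
    have : x' = e y' + 1 := by
      have e1 : e y' * f a = x' := by
        calc e y' * f a = e y' * f a * (x * x') := by rw [hxu, mul_one]
          _ = e y' * (f a * x) * x' := by simp only [mul_assoc]
          _ = x' := by rw [← hy', one_mul]
      have e2 : e y' = x' * g := by rw [← e1, mul_assoc, ha, mul_one]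
      rw [e2, hg, mul_add, hx', mul_one, add_assoc, add_comm, add_assoc, htwo, add_zero]
    rw [this]
    exact E.add_mem ((hEmem _).mpr ⟨_, rfl⟩) h1E
  obtain ⟨K, instK, instFK, θ, hKcard, hθ⟩ := exists_field_of_spread E hEcard h1E hEunit hinvclosed
  have hθE : ∀ x, θ x ∈ E := fun x => (hθ _).mpr ⟨x, rfl⟩
  have hθsurj : ∀ x ∈ E, ∃ k, θ k = x := fun x hx => (hθ x).mp hx
  obtain ⟨a0, ha0⟩ := exists_ne (0 : Additive ↥U)
  let ev : K →+ Additive ↥U :=
    { toFun := fun x => θ x a0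
      map_zero' := by simp
      map_add' := fun x z => by simp }
  have hev : Function.Bijective ev := by
    refine (Nat.bijective_iff_injective_and_card _).mpr ⟨(injective_iff_map_eq_zero ev).mpr ?_, hKcard⟩
    intro x hx
    by_contra hx0
    exact ha0 ((hunit _ (hθE x) (fun e' => hx0 (θ.injective (by rw [e', map_zero])))).1
      (show θ x a0 = θ x 0 by rw [map_zero]; exact hx))
  have hev_mul : ∀ x z, ev (x * z) = θ x (ev z) := fun x z => by
    show θ (x * z) a0 = θ x (θ z a0)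
    rw [map_mul]; rfl
  let μ : (Fin 2 → K) → ↥(V ⊔ U) := fun v =>
    ⟨((ι (Additive.toMul (ev (v 0))) : ↥V) : G) * ((Additive.toMul (ev (v 1)) : ↥U) : G),
      mul_mem (mem_sup_left (ι (Additive.toMul (ev (v 0)))).2)
        (mem_sup_right (Additive.toMul (ev (v 1))).2)⟩
  have hμ : Function.Bijective μ := by
    refine ⟨fun v v' hvv => ?_, fun t => ?_⟩
    · obtain ⟨e1, e2⟩ := huniq (congrArg Subtype.val hvv)
      funext i
      fin_cases i
      · exact hev.1 (Additive.toMul.injective (ι.injective e1))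
      · exact hev.1 (Additive.toMul.injective e2)
    · obtain ⟨v, hv, w, hw, e'⟩ := h.mem_sup_iff.mp t.2
      obtain ⟨x, hx⟩ := hev.2 (Additive.ofMul (ι.symm ⟨v, hv⟩))
      obtain ⟨z, hz⟩ := hev.2 (Additive.ofMul ⟨w, hw⟩)
      refine ⟨![x, z], Subtype.ext ?_⟩
      simp [μ, hx, hz, e']
  let μe := Equiv.ofBijective μ hμ
  obtain ⟨Ψ, hΨinj, hΨμ⟩ := exists_sl_perm μe
  let H := part V ⊔ part U
  obtain ⟨χ, hker', hχ⟩ := exists_conj_perm H (V ⊔ U) h.sup_part_le
  have h01 : (0 : Fin 2) ≠ 1 := by decide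
  have hupV : ∀ (y : ↥(part V)) (k : K), e y = θ k →
      χ ⟨y, mem_sup_left y.2⟩ = Ψ (Matrix.SpecialLinearGroup.transvection h01 k) := by
    intro y k hyk
    refine Equiv.ext fun t => ?_
    obtain ⟨v, rfl⟩ := μe.surjective t
    rw [hΨμ]
    refine Subtype.ext ?_
    rw [transvection_mulVec_upper, hχ]
    show (y : G) * (((ι (Additive.toMul (ev (v 0))) : ↥V) : G) * ((Additive.toMul (ev (v 1)) : ↥U) : G)) * (y : G)⁻¹ = _
    show _ = ((ι (Additive.toMul (ev (v 0 + k * v 1))) : ↥V) : G) * ((Additive.toMul (ev (v 1)) : ↥U) : G)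
    rw [map_add, toMul_add, map_mul, Subgroup.coe_mul, hev_mul, ← hyk]
    have he' := he y (Additive.toMul (ev (v 1)))
    rw [ofMul_toMul] at he'
    rw [he']
    obtain ⟨p, hp⟩ : ∃ p, p = ((ι (Additive.toMul (ev (v 0))) : ↥V) : G) := ⟨_, rfl⟩
    obtain ⟨q, hq⟩ : ∃ q, q = ((Additive.toMul (ev (v 1)) : ↥U) : G) := ⟨_, rfl⟩
    rw [← hp, ← hq]
    have hpV : p ∈ V := hp ▸ (ι _).2
    calc (y : G) * (p * q) * (y : G)⁻¹ = ((y : G) * p) * q * (y : G)⁻¹ := by group
      _ = (p * y) * q * (y : G)⁻¹ := by rw [h.good.part_central y.2 hpV]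
      _ = p * ((y : G) * q * (y : G)⁻¹ * q⁻¹) * q := by group
  have hupU : ∀ (a : ↥(part U)) (k : K), f a = θ k →
      χ ⟨a, mem_sup_right a.2⟩ = Ψ (Matrix.SpecialLinearGroup.transvection h01.symm k) := by
    intro a k hak
    refine Equiv.ext fun t => ?_
    obtain ⟨v, rfl⟩ := μe.surjective t
    rw [hΨμ]
    refine Subtype.ext ?_
    rw [transvection_mulVec_lower, hχ]
    show (a : G) * (((ι (Additive.toMul (ev (v 0))) : ↥V) : G) * ((Additive.toMul (ev (v 1)) : ↥U) : G)) * (a : G)⁻¹ = _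
    show _ = ((ι (Additive.toMul (ev (v 0))) : ↥V) : G) * ((Additive.toMul (ev (k * v 0 + v 1)) : ↥U) : G)
    rw [map_add, toMul_add, Subgroup.coe_mul, hev_mul, ← hak]
    have hf' := hf a (Additive.toMul (ev (v 0)))
    rw [ofMul_toMul] at hf'
    rw [hf']
    obtain ⟨p, hp⟩ : ∃ p, p = ((ι (Additive.toMul (ev (v 0))) : ↥V) : G) := ⟨_, rfl⟩
    obtain ⟨q, hq⟩ : ∃ q, q = ((Additive.toMul (ev (v 1)) : ↥U) : G) := ⟨_, rfl⟩
    rw [← hp, ← hq]
    have hpV : p ∈ V := hp ▸ (ι _).2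
    have hqU : q ∈ U := by rw [hq]; exact SetLike.coe_mem _
    have hcU : (a : G) * p * (a : G)⁻¹ * p⁻¹ ∈ U := hs.good.commutator_mem a.2 (hs.le_part hpV)
    calc (a : G) * (p * q) * (a : G)⁻¹ = (a : G) * p * (q * (a : G)⁻¹) := by group
      _ = (a : G) * p * ((a : G)⁻¹ * q) := by rw [hs.good.part_central (inv_mem a.2) hqU]
      _ = ((a : G) * p * (a : G)⁻¹ * p⁻¹) * (p * q) := by group
      _ = p * (((a : G) * p * (a : G)⁻¹ * p⁻¹) * q) := by
          rw [← mul_assoc, ← h.comm hpV hcU, mul_assoc]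
    all_goals congr 1
    all_goals exact h.goodU.comm _ hcU _ hqU
  have hfE : ∀ a, f a ∈ E := by
    intro a
    by_cases hfa : f a = 0
    · rw [hfa]; exact E.zero_mem
    obtain ⟨y, hy⟩ := hinvF a hfa
    have hy0' : e y ≠ 0 := fun e' => by rw [e', zero_mul] at hy; exact zero_ne_one hy
    obtain ⟨u, hu⟩ := hEunit (e y) ((hEmem _).mpr ⟨y, rfl⟩) hy0'
    refine hinvclosed _ ((hEmem _).mpr ⟨y, rfl⟩) hy0' _ ?_
    rw [← hu] at hy ⊢
    rw [Units.eq_inv_of_mul_eq_one_left hy, Units.inv_mul]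
  have hrange : χ.range = Ψ.range := by
    refine le_antisymm ?_ ?_
    · have hle : H ≤ (Ψ.range.comap χ).map H.subtype := by
        refine sup_le (fun y hy => ?_) (fun a ha => ?_)
        · obtain ⟨k, hk⟩ := hθsurj _ ((hEmem (e ⟨y, hy⟩)).mpr ⟨_, rfl⟩)
          exact ⟨⟨y, mem_sup_left hy⟩, ⟨_, (hupV ⟨y, hy⟩ k hk.symm).symm⟩, rfl⟩
        · obtain ⟨k, hk⟩ := hθsurj _ (hfE ⟨a, ha⟩)
          exact ⟨⟨a, mem_sup_right ha⟩, ⟨_, (hupU ⟨a, ha⟩ k hk.symm).symm⟩, rfl⟩
      rintro _ ⟨⟨x, hx⟩, rfl⟩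
      obtain ⟨⟨x', hx'⟩, hmem, hxe⟩ := hle hx
      obtain rfl : x' = x := hxe
      exact hmem
    · have htop : χ.range.comap Ψ = ⊤ := by
        refine Classical.sl_eq_top_of_transvection _ fun i j hij k => ?_
        rw [Subgroup.mem_comap]
        by_cases hi : i = 0
        · obtain rfl := hi
          obtain rfl : j = 1 := Fin.eq_one_of_ne_zero j (Ne.symm hij)
          obtain ⟨y, hy⟩ := (hEmem _).mp (hθE k)
          exact ⟨⟨y, mem_sup_left y.2⟩, hupV y k hy⟩
        · obtain rfl : i = 1 := Fin.eq_one_of_ne_zero i hi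
          obtain rfl : j = 0 := by omega
          by_cases hk : θ k = 0
          · refine ⟨1, ?_⟩
            have : k = 0 := θ.injective (by rw [hk, map_zero])
            rw [this, Matrix.SpecialLinearGroup.transvection_coeff_zero, map_one, map_one]
          · obtain ⟨u, hu⟩ := hEunit _ (hθE k) hk
            obtain ⟨y, hy⟩ := (hEmem _).mp (hinvclosed _ (hθE k) hk ↑u⁻¹ (by rw [← hu, Units.inv_mul]))
            have hy0' : e y ≠ 0 := by rw [hy]; exact u⁻¹.ne_zero
            obtain ⟨a, ha⟩ := hinvE y hy0'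
            refine ⟨⟨a, mem_sup_right a.2⟩, hupU a k ?_⟩
            rw [hy] at ha
            rw [← hu, Units.eq_inv_of_mul_eq_one_right ha, inv_inv]
      rintro _ ⟨s, rfl⟩
      have : s ∈ χ.range.comap Ψ := htop ▸ Subgroup.mem_top s
      exact this
  refine ⟨K, inferInstance, inferInstance, ?_, ?_, fun hN => ⟨?_⟩⟩
  · rw [← Nat.card_eq_fintype_card, hKcard, ← h.card_eq]; rfl
  · refine le_antisymm ?_ inf_le_left
    haveI : Fact (Nat.Prime 2) := ⟨Nat.prime_two⟩
    haveI : Group.IsNilpotent ↥(core V) := (core_isPGroup V).isNilpotent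
    haveI : (V.subgroupOf (core V)).Normal := ⟨fun x hx m =>
      (mem_normalizer_iff.mp (core_le_normalizer V m.2) _).mp hx⟩
    obtain ⟨z, hz, hz1⟩ : ∃ z ∈ V.subgroupOf (core V) ⊓ center ↥(core V), z ≠ 1 := by
      have hne : V.subgroupOf (core V) ⊓ center ↥(core V) ≠ ⊥ := by
        refine Core.inf_center_ne_bot ?_
        rw [Ne, Subgroup.subgroupOf_eq_bot, disjoint_iff, inf_eq_left.mpr h.good.le_core_self]
        intro hV
        obtain ⟨w, hw⟩ := hne_ex
        exact hw (ι.injective (Subtype.ext (by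
          rw [map_one]; exact (eq_bot_iff_forall _).mp hV _ (ι w).2)))
      obtain ⟨x, hx⟩ := Subgroup.ne_bot_iff_exists_ne_one.mp hne
      exact ⟨x, x.2, fun e' => hx (Subtype.ext e')⟩
    have hzc : ∀ q ∈ core V, q * (z : G) = z * q := fun q hq =>
      congrArg Subtype.val (mem_center_iff.mp hz.2 ⟨q, hq⟩)
    intro x hx
    refine mem_inf.mpr ⟨hx, mem_centralizer_iff.mpr fun v hv => ?_⟩
    obtain ⟨r, hr⟩ := hev.2 (Additive.ofMul (ι.symm ⟨(z : G), hz.1⟩))
    obtain ⟨s, hs'⟩ := hev.2 (Additive.ofMul (ι.symm ⟨v, hv⟩))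
    by_cases hs0 : s = 0
    · have : ι.symm ⟨v, hv⟩ = 1 := by
        rw [hs0, map_zero] at hs'
        exact Additive.ofMul.injective hs'.symm
      rw [MulEquiv.map_eq_one_iff] at this
      rw [show v = 1 from congrArg Subtype.val this, one_mul, mul_one]
    have hr0 : r ≠ 0 := by
      intro e'
      rw [e', map_zero] at hr
      have := Additive.ofMul.injective hr.symm
      rw [MulEquiv.map_eq_one_iff] at this
      exact hz1 (Subtype.ext (congrArg Subtype.val this : (z : G) = 1))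
    let D : SL(2, K) := ⟨!![s * r⁻¹, 0; 0, r * s⁻¹], by
      rw [Matrix.det_fin_two_of]; field_simp; ring⟩
    obtain ⟨d, hd⟩ : Ψ D ∈ χ.range := hrange ▸ ⟨D, rfl⟩
    have hdiag : ∀ x1 : K, (d : G) * ((ι (Additive.toMul (ev x1)) : ↥V) : G) * (d : G)⁻¹ =
        ((ι (Additive.toMul (ev (s * r⁻¹ * x1))) : ↥V) : G) := by
      intro x1
      have h1 := congrArg (fun p : Equiv.Perm _ => ((p (μe ![x1, 0]) : ↥(V ⊔ U)) : G)) hd
      simp only [hΨμ] at h1
      have e1 : (D : Matrix (Fin 2) (Fin 2) K).mulVec ![x1, 0] = ![s * r⁻¹ * x1, 0] := by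
        funext i
        fin_cases i <;> simp [D, Matrix.mulVec, dotProduct, Fin.sum_univ_two]
      rw [e1, hχ] at h1
      simpa [μe, μ] using h1
    have hdN : (d : G) ∈ normalizer (V : Set G) := by
      refine mem_normalizer_iff.mpr fun t => ⟨fun ht => ?_, fun ht => ?_⟩
      · obtain ⟨x1, hx1⟩ := hev.2 (Additive.ofMul (ι.symm ⟨t, ht⟩))
        have := hdiag x1
        rw [hx1] at this
        simp only [toMul_ofMul, MulEquiv.apply_symm_apply] at this
        rw [this]
        exact SetLike.coe_mem _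
      · obtain ⟨x1, hx1⟩ := hev.2 (Additive.ofMul (ι.symm ⟨_, ht⟩))
        have hsr : s * r⁻¹ ≠ 0 := mul_ne_zero hs0 (inv_ne_zero hr0)
        have := hdiag ((s * r⁻¹)⁻¹ * x1)
        rw [mul_inv_cancel_left₀ hsr, hx1] at this
        simp only [toMul_ofMul, MulEquiv.apply_symm_apply, mul_left_inj, mul_right_inj] at this
        rw [← this]
        exact SetLike.coe_mem _
    have hv' : v = (d : G) * z * (d : G)⁻¹ := by
      have := hdiag r
      rw [show s * r⁻¹ * r = s from inv_mul_cancel_right₀ hr0 s, hr, hs'] at this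
      simpa using this.symm
    have h2 : (d : G)⁻¹ * x * d ∈ core V := by simpa using core_conj (inv_mem hdN) hx
    rw [hv']
    calc (d : G) * z * (d : G)⁻¹ * x = (d : G) * (z * ((d : G)⁻¹ * x * d)) * (d : G)⁻¹ := by group
      _ = (d : G) * (((d : G)⁻¹ * x * d) * z) * (d : G)⁻¹ := by rw [hzc _ h2]
      _ = _ := by group
  · exact (QuotientGroup.quotientMulEquivOfEq hker'.symm).trans
      ((QuotientGroup.quotientKerEquivRange χ).trans
        ((MulEquiv.subgroupCongr hrange).trans (MonoidHom.ofInjective hΨinj).symm))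

end Cfsg.Agent.TimmesfeldTI
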