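import Cfsg.Agent.TimmesfeldTI.Pair

/-!
# `V` lies in the core of the normaliser of its conjugate
-/

set_option autoImplicit false
set_option linter.unusedSectionVars false
set_option maxHeartbeats 400000

namespace Cfsg.Agent.TimmesfeldTI

open Subgroup

variable {G : Type*} [Group G] [Finite G] {V U : Subgroup G}

/-- A displacement of an element of `V` inside `U` already gives the conclusion. -/
theorem Pair.absorb_of_shift (h : Pair V U) {a z : G} (ha : a ∈ part U) (hz : z ∈ V)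
    (hm : a * z * a⁻¹ * z⁻¹ ∈ U) (hne : a * z * a⁻¹ * z⁻¹ ≠ 1) : V ≤ core U := by
  obtain ⟨w, hw⟩ : ∃ w, w = a * z * a⁻¹ * z⁻¹ := ⟨_, rfl⟩
  rw [← hw] at hm hne
  obtain ⟨y, hy, e⟩ := h.exists_conj_comm hm hne hz
  have hz1 : z ≠ 1 := fun e' => hne (by rw [hw, e']; group)
  have hw' : a * z * a⁻¹ = z * w := by
    rw [show a * z * a⁻¹ = w * z by rw [hw]; group, h.comm hz hm]
  have hmem : a * z * a⁻¹ ∈ conjS U y := by
    rw [mem_conjS, hw', ← e]
    simpa [mul_assoc] using hm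
  have hyw : conjS V (a : G) = conjS U y := by
    obtain ⟨g, hg⟩ := h.isConj
    rw [hg, conjS_mul] at hmem ⊢
    rcases h.good.ti ((y * g)⁻¹ * a) with e' | e'
    · calc conjS V a = conjS (conjS V ((y * g)⁻¹ * a)) (y * g) := by
            rw [conjS_mul]; congr 1; group
        _ = _ := by rw [e']
    · exfalso
      have h1 : (y * g)⁻¹ * (a * z * a⁻¹) * (y * g) = 1 := by
        refine Subgroup.mem_bot.mp (e' ▸ mem_inf.mpr ⟨?_, mem_conjS.mp hmem⟩)
        rw [mem_conjS]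
        simpa [mul_assoc] using hz
      refine hz1 ?_
      have := congrArg (fun t => a⁻¹ * (y * g) * t * ((y * g)⁻¹ * a)) h1
      simpa [mul_assoc] using this
  obtain ⟨x, hx⟩ : ∃ x, x = y⁻¹ * a := ⟨_, rfl⟩
  have hVx : conjS V x = U := by
    rw [hx, ← conjS_mul, hyw, conjS_mul, inv_mul_cancel, conjS_one]
  have hcore : conjS (core V) x = core U := by rw [conjS_core, hVx]
  have hUa : conjS U a = U := conjS_normalizer_mem.mpr (part_le_normalizer U ha)
  have hU' : conjS U x ≤ core U := hcore ▸ Subgroup.map_mono h.le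
  have hUx : conjS U x = conjS U y⁻¹ := by rw [hx, ← conjS_mul, hUa]
  rw [hUx] at hU'
  intro v hv
  by_cases hv1 : v = 1
  · exact hv1 ▸ one_mem _
  -- `y` moves `w` to `v' * w`
  have hw2 : y⁻¹ * w * y ∈ conjS U y⁻¹ := by rw [mem_conjS]; simpa [mul_assoc] using hm
  have hyV : y⁻¹ ∈ part V := inv_mem hy
  obtain ⟨u', hu', e'⟩ : ∃ u' ∈ U, y⁻¹ * u' * y * u'⁻¹ = v := by
    let f : ↥U → ↥V := fun u => ⟨_, h.good.commutator_mem hyV (h.le_part u.2)⟩
    have hf : Function.Injective f := by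
      intro s t hst
      have e0 : y⁻¹ * s * y⁻¹⁻¹ * (s : G)⁻¹ = y⁻¹ * t * y⁻¹⁻¹ * (t : G)⁻¹ := congrArg Subtype.val hst
      by_contra hne'
      have hst1 : (s : G) * t ≠ 1 := fun e'' =>
        hne' (Subtype.ext (by rw [eq_inv_of_mul_eq_one_left e'', h.goodU.inv_eq t.2]))
      have e1 : y⁻¹ * (s * t) * y⁻¹⁻¹ * ((s : G) * t)⁻¹ = 1 := by
        rw [h.good.comm_mul hyV (h.le_part s.2) (h.le_part t.2), e0]
        exact h.good.sq _ (h.good.commutator_mem hyV (h.le_part t.2))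
      have hc := h.mem_fixPart hyV (mul_mem s.2 t.2) hst1
        (mul_inv_eq_iff_eq_mul.mp (mul_inv_eq_one.mp e1))
      have hcy : w * y⁻¹ = y⁻¹ * w := mem_centralizer_iff.mp hc.2 w hm
      refine hz1 ?_
      rw [← e, show y * w = w * y by
        calc y * w = y * (w * y⁻¹) * y := by group
          _ = y * (y⁻¹ * w) * y := by rw [hcy]
          _ = _ := by group]
      group
    obtain ⟨u', hu'⟩ := ((Nat.bijective_iff_injective_and_card f).mpr ⟨hf, h.card_eq⟩).2 ⟨v, hv⟩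
    exact ⟨u', u'.2, by simpa [f] using congrArg Subtype.val hu'⟩
  rw [← e']
  refine mul_mem (hU' ?_) (inv_mem (h.goodU.le_core_self hu'))
  rw [mem_conjS]
  simpa [mul_assoc] using hu'

/-- `V ≤ O₂(N(U))`. -/
theorem Pair.absorb (h : Pair V U) : V ≤ core U := by
  by_contra hno
  have hUg := h.goodU
  have hVn : ∀ v ∈ V, v ∈ normalizer (U : Set G) := fun v hv => h.V_normalizes hv
  -- a fixed coset is fixed
  have hfix : ∀ a ∈ part U, ∀ z ∈ V, z ≠ 1 → a * z * a⁻¹ * z⁻¹ ∈ U →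
      a ∈ normalizer (V : Set G) := by
    intro a ha z hz hz1 hm
    by_contra haN
    refine hno (h.absorb_of_shift ha hz hm fun e => haN ?_)
    rw [← conjS_normalizer_mem]
    refine (h.good.ti a).resolve_right fun e' => hz1 (Subgroup.mem_bot.mp (e' ▸ mem_inf.mpr ⟨?_, hz⟩))
    rw [mem_conjS, mul_assoc, ← mul_inv_eq_iff_eq_mul.mp (mul_inv_eq_one.mp e), inv_mul_cancel_left]
    exact hz
  -- `V` meets the core trivially
  have htriv : ∀ v ∈ V, v ∈ core U → v = 1 := by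
    intro v hv hvQ
    by_contra hv1
    have hvP : v ∈ part U := mem_inf.mpr ⟨hvQ, mem_centralizer_iff.mpr fun u hu => (h.comm hv hu).symm⟩
    obtain ⟨a, ha, hne⟩ : ∃ a ∈ part U, v * a ≠ a * v := by
      by_contra hall
      push Not at hall
      exact hv1 (h.eq_one (hUg.center_part hvP hall) hv)
    refine hno (h.absorb_of_shift ha hv (hUg.commutator_mem ha hvP) fun e => hne ?_)
    exact (mul_inv_eq_iff_eq_mul.mp (mul_inv_eq_one.mp e)).symm
  -- `P_U ∩ N(V)` centralises `V`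
  have hcent : ∀ x ∈ part U, x ∈ normalizer (V : Set G) → ∀ v ∈ V, x * v = v * x := by
    intro x hx hxN v hv
    refine mul_inv_eq_iff_eq_mul.mp (mul_inv_eq_one.mp (htriv _ ?_ ?_))
    · exact mul_mem ((mem_normalizer_iff.mp hxN v).mp hv) (inv_mem hv)
    · rw [show x * v * x⁻¹ * v⁻¹ = x * (v * x⁻¹ * v⁻¹) by group]
      exact mul_mem hx.1 (core_conj (hVn v hv) (inv_mem hx.1))
  obtain ⟨v1, hv1, hv1Q⟩ := SetLike.not_le_iff_exists.mp hno
  have hv11 : v1 ≠ 1 := fun e => hv1Q (e ▸ one_mem _)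
  obtain ⟨a, ha, haN⟩ : ∃ a ∈ part U, a ∉ normalizer (V : Set G) := by
    by_contra hall
    push Not at hall
    refine hv1Q (hUg.mem_core_of_trivial (hVn v1 hv1) (fun u hu => h.comm hv1 hu) fun p hp => ?_)
    rw [← hcent p hp (hall p hp) v1 hv1, mul_inv_cancel_right, mul_inv_cancel]
    exact one_mem _
  have hconj : ∀ c ∈ fixPart V U, c ∈ normalizer (U : Set G) := fun c hc =>
    Subgroup.centralizer_le_normalizer _ hc.2
  have hCV : ∀ c ∈ fixPart V U, c ∈ normalizer (V : Set G) := fun c hc => part_le_normalizer V hc.1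
  -- the intersection of the two parts is `U`
  have hD : ∀ d ∈ part V, d ∈ part U → d ∈ U := by
    intro d hd hd'
    obtain ⟨v, hv, w, hw, e⟩ := h.eq_mul_of_centralizes hd fun c hc => by
      refine (mul_inv_eq_iff_eq_mul.mp (mul_inv_eq_one.mp ?_))
      refine htriv _ (h.good.commutator_mem hd hc.1) ?_
      rw [show d * c * d⁻¹ * c⁻¹ = d * (c * d⁻¹ * c⁻¹) by group]
      exact mul_mem hd'.1 (core_conj (hconj c hc) (inv_mem hd'.1))
    have : v = 1 := by
      refine htriv v hv ?_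
      rw [eq_mul_inv_of_mul_eq e.symm]
      exact mul_mem hd'.1 (inv_mem (hUg.le_core_self hw))
    rw [e, this, one_mul]; exact hw
  have hcx : ∀ c ∈ fixPart V U, ∀ x ∈ part U, x ∈ normalizer (V : Set G) →
      c * x * c⁻¹ * x⁻¹ ∈ U := by
    intro c hc x hx hxN
    refine hD _ ?_ (mul_mem (part_conj (hconj c hc) hx) (inv_mem hx))
    rw [show c * x * c⁻¹ * x⁻¹ = c * (x * c⁻¹ * x⁻¹) by group]
    exact mul_mem hc.1 (part_conj hxN (inv_mem hc.1))
  by_cases hsq : ∃ c ∈ fixPart V U, c * c ≠ 1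
  · obtain ⟨c, hc, hc1⟩ := hsq
    obtain ⟨z, hz⟩ : ∃ z, z = c * c := ⟨_, rfl⟩
    have hzV : z ∈ V := hz ▸ h.good.sq_mem hc.1
    have hzN := hVn z hzV
    let f : G → G := fun p => c * p * c⁻¹ * p⁻¹
    have hf : ∀ p ∈ part U, f p ∈ part U := fun p hp =>
      mul_mem (part_conj (hconj c hc) hp) (inv_mem hp)
    have hff : ∀ p ∈ part U, ∃ u ∈ U, z * p * z⁻¹ * p⁻¹ = f (f p) * u := by
      intro p hp
      refine ⟨f p * f p, hUg.sq_mem (hf p hp), ?_⟩
      simp only [f, hz]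
      group
    have hstay : ∀ p ∈ part U, p ∉ normalizer (V : Set G) → f p ∉ normalizer (V : Set G) := by
      intro p hp hpN hfN
      refine hpN (hfix p hp z hzV (by rwa [← hz] at hc1) ?_)
      obtain ⟨u, hu, e⟩ := hff p hp
      have h1 : z * p * z⁻¹ * p⁻¹ ∈ U := e ▸ mul_mem (hcx c hc _ (hf p hp) hfN) hu
      rw [show p * z * p⁻¹ * z⁻¹ = (z * p * z⁻¹ * p⁻¹)⁻¹ by group]
      exact inv_mem h1
    obtain ⟨u, hu, e⟩ := hff a ha
    have hx' : z * a * z⁻¹ * a⁻¹ ∈ part U := e ▸ mul_mem (hf _ (hf a ha)) (hUg.le_part hu)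
    have hx'N : z * a * z⁻¹ * a⁻¹ ∈ normalizer (V : Set G) := by
      refine hfix _ hx' z hzV (by rwa [← hz] at hc1) ?_
      obtain ⟨x, hxdef⟩ : ∃ x, x = z * a * z⁻¹ * a⁻¹ := ⟨_, rfl⟩
      rw [← hxdef] at hx' ⊢
      have hzz : z * z = 1 := h.good.sq z hzV
      have hzx : z * x * z⁻¹ = x⁻¹ := by
        calc z * x * z⁻¹ = (z * z) * a * z⁻¹ * a⁻¹ * z⁻¹ := by rw [hxdef]; group
          _ = x⁻¹ := by
            rw [hzz, one_mul, hxdef]
            simp only [mul_inv_rev, inv_inv, h.good.inv_eq hzV, mul_assoc]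
      rw [show x * z * x⁻¹ * z⁻¹ = x * (z * x⁻¹ * z⁻¹) by group,
        show z * x⁻¹ * z⁻¹ = (z * x * z⁻¹)⁻¹ by group, hzx, inv_inv]
      exact hUg.sq_mem hx'
    refine hstay _ (hf a ha) (hstay a ha haN) ?_
    rw [show f (f a) = (z * a * z⁻¹ * a⁻¹) * u⁻¹ by rw [e, mul_inv_cancel_right]]
    exact mul_mem hx'N (inv_mem (h.le_normalizer hu))
  · push Not at hsq
    have habel : ∀ p ∈ fixPart V U, ∀ q ∈ fixPart V U, p * q = q * p := fun p hp q hq => by
      calc p * q = (p * q)⁻¹ := (inv_eq_of_mul_eq_one_right (hsq _ (mul_mem hp hq))).symm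
        _ = _ := by
          rw [mul_inv_rev, inv_eq_of_mul_eq_one_right (hsq p hp), inv_eq_of_mul_eq_one_right (hsq q hq)]
    have hW : ∀ c ∈ fixPart V U, ∃ v ∈ V, ∃ w ∈ U, c = v * w := fun c hc =>
      h.eq_mul_of_centralizes hc.1 (habel c hc)
    obtain ⟨x, hx⟩ : ∃ x, x = a * v1 * a⁻¹ * v1⁻¹ := ⟨_, rfl⟩
    have hxP : x ∈ part U := by
      rw [hx, show a * v1 * a⁻¹ * v1⁻¹ = a * (v1 * a⁻¹ * v1⁻¹) by group]
      exact mul_mem ha (part_conj (hVn v1 hv1) (inv_mem ha))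
    have hv1x : v1 * x * v1⁻¹ = x⁻¹ := by
      have hvv : v1⁻¹ = v1 := h.good.inv_eq hv1
      rw [hx]
      simp only [mul_inv_rev, inv_inv, hvv]
      simp [mul_assoc, h.good.sq v1 hv1]
    have hxN : x ∈ normalizer (V : Set G) := by
      refine hfix x hxP v1 hv1 hv11 ?_
      rw [show x * v1 * x⁻¹ * v1⁻¹ = x * (v1 * x * v1⁻¹)⁻¹ by group, hv1x, inv_inv]
      exact hUg.sq_mem hxP
    have hxU : x ∉ U := fun e => haN (hfix a ha v1 hv1 hv11 (hx ▸ e))
    have hxV := hcent x hxP hxN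
    have hxW : ∀ t ∈ fixPart V U, x * t = t * x := by
      intro t ht
      obtain ⟨v, hv, w, hw, rfl⟩ := hW t ht
      have hxw : x * w = w * x := hUg.part_central hxP hw
      rw [← mul_assoc, hxV v hv, mul_assoc, hxw, mul_assoc]
    obtain ⟨U₂, h₂, hnc⟩ := h.exists_noncomm
    refine hxU (hD x (mem_inf.mpr ⟨h.good.mem_core_of_trivial hxN hxV fun p hp => ?_,
      mem_centralizer_iff.mpr fun v hv => (hxV v hv).symm⟩) hxP)
    obtain ⟨u, hu, hup⟩ := h.decompose h₂ hnc hp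
    suffices hu' : x * u * x⁻¹ * u⁻¹ ∈ V by
      have e' : x * (u * p) * x⁻¹ * (u * p)⁻¹ = 1 := by
        rw [hxW _ hup, mul_inv_cancel_right, mul_inv_cancel]
      have hu'' : u⁻¹ * (x * u * x⁻¹ * u⁻¹)⁻¹ * u = (x * u * x⁻¹ * u⁻¹)⁻¹ := by
        rw [mul_assoc, ← h.good.part_central (h₂.le_part hu) (inv_mem hu'), inv_mul_cancel_left]
      rw [show x * p * x⁻¹ * p⁻¹ =
        u⁻¹ * ((x * u * x⁻¹ * u⁻¹)⁻¹ * (x * (u * p) * x⁻¹ * (u * p)⁻¹)) * u by group,
        e', mul_one, hu'']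
      exact inv_mem hu'
    obtain ⟨d, hd⟩ : ∃ d, d = x * u * x⁻¹ * u⁻¹ := ⟨_, rfl⟩
    rw [← hd]
    have huP := h₂.le_part hu
    have hxuP : x * u * x⁻¹ ∈ part V := part_conj hxN huP
    have hdP : d ∈ part V := hd ▸ mul_mem hxuP (inv_mem huP)
    have hdC : d ∈ fixPart V U := by
      obtain ⟨w, hw, hw1⟩ := h.exists_ne_one
      refine h.mem_fixPart hdP hw hw1 ?_
      have hxw : x * w = w * x := hUg.part_central hxP hw
      have hcV := h.good.commutator_mem huP (h.le_part hw)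
      have e1 := h.good.comm_mul' hdP huP (h.le_part hw)
      have e2 : d * u * w * (d * u)⁻¹ * w⁻¹ = u * w * u⁻¹ * w⁻¹ := by
        have e3 : x * (u * w * u⁻¹ * w⁻¹) * x⁻¹ = u * w * u⁻¹ * w⁻¹ := by
          rw [hxV _ hcV, mul_inv_cancel_right]
        conv_rhs => rw [← e3]
        rw [hd, inv_mul_cancel_right]
        calc x * u * x⁻¹ * w * (x * u * x⁻¹)⁻¹ * w⁻¹
            = x * u * (x⁻¹ * (w * x)) * u⁻¹ * (x⁻¹ * w⁻¹) := by group
          _ = x * u * (x⁻¹ * (x * w)) * u⁻¹ * (x⁻¹ * w⁻¹) := by rw [hxw]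
          _ = x * u * w * u⁻¹ * (w * x)⁻¹ := by group
          _ = x * u * w * u⁻¹ * (x * w)⁻¹ := by rw [hxw]
          _ = _ := by group
      rw [e2] at e1
      have e4 : d * w * d⁻¹ * w⁻¹ = 1 := mul_eq_right.mp e1.symm
      exact mul_inv_eq_iff_eq_mul.mp (mul_inv_eq_one.mp e4)
    obtain ⟨v, hv, w, hw, e⟩ := hW d hdC
    suffices w = 1 by rw [e, this, mul_one]; exact hv
    by_contra hw1
    have hsq' : (d * u) * (d * u) = 1 := by
      rw [hd, inv_mul_cancel_right]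
      calc x * u * x⁻¹ * (x * u * x⁻¹) = x * (u * u) * x⁻¹ := by group
        _ = 1 := by rw [h₂.goodU.sq u hu, mul_one, mul_inv_cancel]
    have hdu : d * u = u * d := by
      have hdd : d * d = 1 := hsq d hdC
      calc d * u = (d * u)⁻¹ := (inv_eq_of_mul_eq_one_right hsq').symm
        _ = _ := by
          rw [mul_inv_rev, inv_eq_of_mul_eq_one_right hdd,
            inv_eq_of_mul_eq_one_right (h₂.goodU.sq u hu)]
    have hvu : v * u = u * v := (h.good.part_central huP hv).symm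
    have hwu : u * w = w * u := by
      rw [e] at hdu
      have : v * (w * u) = v * (u * w) := by rw [← mul_assoc, hdu, ← mul_assoc, ← hvu, mul_assoc]
      exact (mul_left_cancel this).symm
    have huC := h.mem_fixPart huP hw hw1 hwu
    obtain ⟨u0, hu0, u2, hu2, hne⟩ := hnc
    have hu1 := h.disjoint_partner h₂ hu0 hu2 hne huC hu
    rw [hu1, mul_one, mul_inv_cancel, inv_one, mul_one] at hd
    rw [hd] at e
    exact hw1 (h.eq_one hw (by rw [eq_inv_mul_of_mul_eq e.symm, mul_one]; exact inv_mem hv))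

theorem Pair.symm (h : Pair V U) : Pair U V := by
  obtain ⟨g, hg⟩ := h.isConj
  exact ⟨h.goodU, ⟨g⁻¹, by rw [hg, conjS_mul, inv_mul_cancel, conjS_one]⟩, h.ne.symm, h.absorb⟩

end Cfsg.Agent.TimmesfeldTI
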