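import Mathlib
import Cfsg.Agent.Core.PCore

/-!
# A TI-subgroup whose normaliser has characteristic two type

`P = O₂(N(V)) ∩ C(V)` has centre `V`, class at most two and exponent at most four.
-/

set_option autoImplicit false
set_option linter.unusedSectionVars false
set_option maxHeartbeats 400000

namespace Cfsg.Agent.TimmesfeldTI

open Subgroup
open scoped commutatorElement

variable {G : Type*} [Group G] [Finite G]

/-- The conjugate of a subgroup. -/
abbrev conjS (V : Subgroup G) (x : G) : Subgroup G := V.map (MulAut.conj x).toMonoidHom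

theorem mem_conjS {V : Subgroup G} {x y : G} : y ∈ conjS V x ↔ x⁻¹ * y * x ∈ V := by
  constructor
  · rintro ⟨v, hv, rfl⟩
    simpa [mul_assoc] using hv
  · intro h
    exact ⟨_, h, by simp [mul_assoc]⟩

theorem conjS_one (V : Subgroup G) : conjS V 1 = V := by
  ext y; simp [mem_conjS]

theorem conjS_mul (V : Subgroup G) (x y : G) : conjS (conjS V y) x = conjS V (x * y) := by
  ext z; simp [mem_conjS, mul_assoc]

/-- The 2-core of the normaliser. -/
def core (V : Subgroup G) : Subgroup G :=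
  (Cfsg.pCore 2 ↥(normalizer (V : Set G))).map (normalizer (V : Set G)).subtype

/-- The part of the 2-core centralising `V`. -/
def part (V : Subgroup G) : Subgroup G := core V ⊓ centralizer (V : Set G)

/-- The hypotheses on `V`. -/
structure Good (V : Subgroup G) : Prop where
  comm : ∀ a ∈ V, ∀ b ∈ V, a * b = b * a
  sq : ∀ a ∈ V, a * a = 1
  cent : ∀ m ∈ normalizer (V : Set G), (∀ q ∈ core V, m * q = q * m) → m ∈ core V
  maxab : ∀ A : Subgroup G, V ≤ A → A ≤ normalizer (V : Set G) →
    (∀ a ∈ A, ∀ b ∈ A, a * b = b * a) →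
    (∀ m ∈ normalizer (V : Set G), ∀ a ∈ A, m * a * m⁻¹ ∈ A) → A = V
  ti : ∀ x : G, conjS V x = V ∨ conjS V x ⊓ V = ⊥

theorem core_le_normalizer (V : Subgroup G) : core V ≤ normalizer (V : Set G) := map_subtype_le _

theorem core_conj {V : Subgroup G} {m q : G} (hm : m ∈ normalizer (V : Set G)) (hq : q ∈ core V) :
    m * q * m⁻¹ ∈ core V := by
  obtain ⟨q, hq, rfl⟩ := hq
  exact ⟨⟨m, hm⟩ * q * ⟨m, hm⟩⁻¹, Normal.conj_mem inferInstance q hq _, rfl⟩

theorem le_core {V K : Subgroup G} (hK : K ≤ normalizer (V : Set G))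
    (hn : ∀ m ∈ normalizer (V : Set G), ∀ x ∈ K, m * x * m⁻¹ ∈ K) (hp : IsPGroup 2 ↥K) :
    K ≤ core V := by
  haveI : (K.subgroupOf (normalizer (V : Set G))).Normal :=
    ⟨fun x hx m => hn m m.2 x hx⟩
  have h := Core.le_pCore (p := 2) (hp.of_equiv (subgroupOfEquivOfLe hK).symm)
  exact fun x hx => ⟨⟨x, hK hx⟩, h hx, rfl⟩

theorem core_isPGroup (V : Subgroup G) : IsPGroup 2 ↥(core V) := (Core.pCore_isPGroup).map _

theorem part_conj {V : Subgroup G} {m q : G} (hm : m ∈ normalizer (V : Set G)) (hq : q ∈ part V) :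
    m * q * m⁻¹ ∈ part V := by
  refine mem_inf.mpr ⟨core_conj hm hq.1, mem_centralizer_iff.mpr fun v hv => ?_⟩
  have h' : m⁻¹ * v * m ∈ V := (mem_normalizer_iff''.mp hm v).mp hv
  have h := mem_centralizer_iff.mp hq.2 _ h'
  calc v * (m * q * m⁻¹) = m * ((m⁻¹ * v * m) * q) * m⁻¹ := by group
    _ = m * (q * (m⁻¹ * v * m)) * m⁻¹ := by rw [h]
    _ = _ := by group

theorem part_le_normalizer (V : Subgroup G) : part V ≤ normalizer (V : Set G) :=
  inf_le_left.trans (core_le_normalizer V)

namespace Good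

variable {V : Subgroup G} (h : Good V)
include h

theorem inv_eq {a : G} (ha : a ∈ V) : a⁻¹ = a := inv_eq_of_mul_eq_one_right (h.sq a ha)

theorem le_normalizer_self : V ≤ normalizer (V : Set G) := Subgroup.le_normalizer

theorem le_core_self : V ≤ core V := by
  refine le_core h.le_normalizer_self (fun m hm x hx => (mem_normalizer_iff.mp hm x).mp hx) fun x => ?_
  exact ⟨1, Subtype.ext (by simpa [pow_two] using h.sq x x.2)⟩

theorem le_part : V ≤ part V :=
  le_inf h.le_core_self fun _ hv => mem_centralizer_iff.mpr fun w hw => h.comm w hw _ hv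

theorem part_central {p v : G} (hp : p ∈ part V) (hv : v ∈ V) : p * v = v * p :=
  (mem_centralizer_iff.mp hp.2 v hv).symm

theorem center_part {z : G} (hz : z ∈ part V) (hc : ∀ p ∈ part V, z * p = p * z) : z ∈ V := by
  have hA : part V ⊓ centralizer (part V : Set G) = V := by
    refine h.maxab _ (le_inf h.le_part ?_) (inf_le_left.trans (part_le_normalizer V)) ?_ ?_
    · exact fun v hv => mem_centralizer_iff.mpr fun p hp => h.part_central hp hv
    · exact fun a ha b hb => (mem_centralizer_iff.mp hb.2 a ha.1)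
    · intro m hm a ha
      refine mem_inf.mpr ⟨part_conj hm ha.1, mem_centralizer_iff.mpr fun p hp => ?_⟩
      have h' : m⁻¹ * p * m ∈ part V := by simpa using part_conj (inv_mem hm) hp
      have h := mem_centralizer_iff.mp ha.2 _ h'
      calc p * (m * a * m⁻¹) = m * ((m⁻¹ * p * m) * a) * m⁻¹ := by group
        _ = m * (a * (m⁻¹ * p * m)) * m⁻¹ := by rw [h]
        _ = _ := by group
  rw [← hA]
  exact mem_inf.mpr ⟨hz, mem_centralizer_iff.mpr fun p hp => (hc p hp).symm⟩

theorem part_isPGroup : IsPGroup 2 ↥(part V) := (core_isPGroup V).to_le inf_le_left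

/-- `[P, P] ≤ V`. -/
theorem commutator_mem {x y : G} (hx : x ∈ part V) (hy : y ∈ part V) :
    x * y * x⁻¹ * y⁻¹ ∈ V := by
  suffices hle : ⁅part V, part V⁆ ≤ V from hle (commutator_mem_commutator hx hy)
  let γ : ℕ → Subgroup G := fun n =>
    Nat.rec (part V) (fun _ H => ⁅H, part V⁆) n
  have hγmap : ∀ n, γ n = ((⊤ : Subgroup ↥(part V)).lowerCentralSeries n).map (part V).subtype := by
    intro n
    induction n with
    | zero => simp [γ, ← MonoidHom.range_eq_map]
    | succ n ih =>
      show ⁅γ n, part V⁆ = _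
      rw [Subgroup.lowerCentralSeries_succ, Subgroup.map_commutator, ← ih, ← MonoidHom.range_eq_map,
        Subgroup.range_subtype]
  haveI : Fact (Nat.Prime 2) := ⟨Nat.prime_two⟩
  haveI : Group.IsNilpotent ↥(part V) := h.part_isPGroup.isNilpotent
  obtain ⟨k, hk⟩ : ∃ k, γ k ≤ V := by
    obtain ⟨k, hk⟩ := Subgroup.nilpotent_iff_lowerCentralSeries.mp (inferInstance : Group.IsNilpotent ↥(part V))
    exact ⟨k, by rw [hγmap, hk, Subgroup.map_bot]; exact bot_le⟩
  have hle : ∀ n, γ n ≤ part V := fun n => by rw [hγmap]; exact map_subtype_le _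
  have hconj : ∀ n, ∀ m ∈ normalizer (V : Set G), ∀ a ∈ γ n, m * a * m⁻¹ ∈ γ n := by
    intro n
    induction n with
    | zero => exact fun m hm a ha => part_conj hm ha
    | succ n ih =>
      intro m hm a ha
      have : (⁅γ n, part V⁆).map (MulAut.conj m).toMonoidHom ≤ ⁅γ n, part V⁆ := by
        rw [Subgroup.map_commutator]
        refine commutator_mono ?_ ?_ <;> rintro _ ⟨b, hb, rfl⟩
        exacts [ih m hm b hb, part_conj hm hb]
      exact this ⟨a, ha, rfl⟩
  have hdown : ∀ n, 1 ≤ n → γ (n + 1) ≤ V → γ n ≤ V := by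
    intro n hn hV a ha
    have h1 : ⁅γ (n + 1), part V⁆ = ⊥ := by
      rw [commutator_eq_bot_iff_le_centralizer]
      intro x hx
      exact mem_centralizer_iff.mpr fun p hp => h.part_central hp (hV hx)
    have hcomm : ⁅γ 1, γ n⁆ = ⊥ := by
      refine commutator_commutator_eq_bot_of_rotate ?_ h1
      rw [Subgroup.commutator_comm (part V) (γ n)]
      exact h1
    have hn1 : γ n ≤ γ 1 := by
      rw [hγmap, hγmap]
      exact map_mono (Subgroup.lowerCentralSeries_antitone _ hn)
    have habel : (γ n : Subgroup G) ≤ Subgroup.centralizer (SetLike.coe (γ n : Subgroup G)) := by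
      intro x hx; exact commutator_eq_bot_iff_le_centralizer.mp hcomm (hn1 hx)
    have hVc : V ≤ Subgroup.centralizer (SetLike.coe (γ n : Subgroup G)) := by
      intro v hv
      exact mem_centralizer_iff.mpr fun p hp => h.part_central (hle n hp) hv
    have hA : V ⊔ γ n = V := by
      refine h.maxab _ le_sup_left
        (sup_le h.le_normalizer_self ((hle n).trans (part_le_normalizer V))) ?_ ?_
      · have hc : V ⊔ γ n ≤ centralizer ((V ⊔ γ n : Subgroup G) : Set G) := by
          refine sup_le (le_centralizer_iff.mp (sup_le ?_ ?_)) (le_centralizer_iff.mp (sup_le ?_ habel))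
          · exact fun v hv => mem_centralizer_iff.mpr fun u hu => h.comm u hu v hv
          · exact le_centralizer_iff.mp hVc
          · exact hVc
        exact fun x hx y hy => (mem_centralizer_iff.mp (hc hy) x hx)
      · intro m hm a ha
        have : (V ⊔ γ n).map (MulAut.conj m).toMonoidHom ≤ V ⊔ γ n := by
          rw [Subgroup.map_sup]
          refine sup_le_sup ?_ ?_ <;> rintro _ ⟨b, hb, rfl⟩
          exacts [(mem_normalizer_iff.mp hm b).mp hb, hconj n m hm b hb]
        exact this ⟨a, ha, rfl⟩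
    exact hA ▸ mem_sup_right ha
  have hfin : ∀ j n, γ (n + 1 + j) ≤ V → γ (n + 1) ≤ V := by
    intro j
    induction j with
    | zero => exact fun n hn => hn
    | succ j ih => exact fun n hn => ih n (hdown _ (by omega) hn)
  refine hfin k 0 ?_
  rcases k with _ | k
  · exact le_trans (commutator_le_self _) hk
  · refine le_trans (?_ : γ (0 + 1 + (k + 1)) ≤ γ (k + 1)) hk
    rw [hγmap (0 + 1 + (k + 1)), hγmap (k + 1)]
    exact map_mono (Subgroup.lowerCentralSeries_antitone _ (by omega))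

/-- Commutators with a fixed element are multiplicative. -/
theorem comm_mul {x y y' : G} (hx : x ∈ part V) (hy : y ∈ part V) (hy' : y' ∈ part V) :
    x * (y * y') * x⁻¹ * (y * y')⁻¹ = (x * y * x⁻¹ * y⁻¹) * (x * y' * x⁻¹ * y'⁻¹) := by
  have e : x * (y * y') * x⁻¹ * (y * y')⁻¹ =
      (x * y * x⁻¹ * y⁻¹) * (y * (x * y' * x⁻¹ * y'⁻¹) * y⁻¹) := by group
  rw [e, h.part_central hy (h.commutator_mem hx hy'), mul_inv_cancel_right]

theorem comm_mul' {x x' y : G} (hx : x ∈ part V) (hx' : x' ∈ part V) (hy : y ∈ part V) :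
    x * x' * y * (x * x')⁻¹ * y⁻¹ = (x * y * x⁻¹ * y⁻¹) * (x' * y * x'⁻¹ * y⁻¹) := by
  have e : x * x' * y * (x * x')⁻¹ * y⁻¹ =
      (x * (x' * y * x'⁻¹ * y⁻¹) * x⁻¹) * (x * y * x⁻¹ * y⁻¹) := by group
  rw [e, h.part_central hx (h.commutator_mem hx' hy), mul_inv_cancel_right]
  exact h.comm _ (h.commutator_mem hx' hy) _ (h.commutator_mem hx hy)

/-- Squares in `P` lie in `V`. -/
theorem sq_mem {y : G} (hy : y ∈ part V) : y * y ∈ V := by
  refine h.center_part (mul_mem hy hy) fun p hp => ?_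
  have e := h.comm_mul' hy hy hp
  rw [h.sq _ (h.commutator_mem hy hp)] at e
  exact mul_inv_eq_iff_eq_mul.mp (mul_inv_eq_one.mp e)

/-- Elements centralising `V` and `P` modulo `V` lie in the core. -/
theorem mem_core_of_trivial {x : G} (hx : x ∈ normalizer (V : Set G))
    (hxV : ∀ v ∈ V, x * v = v * x) (hxP : ∀ p ∈ part V, x * p * x⁻¹ * p⁻¹ ∈ V) : x ∈ core V := by
  let K : Subgroup G :=
    { carrier := {m | m ∈ normalizer (V : Set G) ∧ (∀ v ∈ V, m * v = v * m) ∧
        ∀ p ∈ part V, m * p * m⁻¹ * p⁻¹ ∈ V}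
      one_mem' := ⟨one_mem _, fun v _ => by simp, fun p _ => by simp⟩
      mul_mem' := by
        rintro a b ⟨ha, hav, hap⟩ ⟨hb, hbv, hbp⟩
        refine ⟨mul_mem ha hb, fun v hv => ?_, fun p hp => ?_⟩
        · rw [mul_assoc, hbv v hv, ← mul_assoc, hav v hv, mul_assoc]
        · have e : a * b * p * (a * b)⁻¹ * p⁻¹ =
              (a * (b * p * b⁻¹ * p⁻¹) * a⁻¹) * (a * p * a⁻¹ * p⁻¹) := by group
          rw [e, hav _ (hbp p hp), mul_inv_cancel_right]
          exact mul_mem (hbp p hp) (hap p hp)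
      inv_mem' := by
        rintro a ⟨ha, hav, hap⟩
        refine ⟨inv_mem ha, fun v hv => ?_, fun p hp => ?_⟩
        · have := hav v hv
          calc a⁻¹ * v = a⁻¹ * (v * a) * a⁻¹ := by group
            _ = a⁻¹ * (a * v) * a⁻¹ := by rw [this]
            _ = v * a⁻¹ := by group
        · have e : a⁻¹ * p * a * p⁻¹ = a⁻¹ * (a * p * a⁻¹ * p⁻¹)⁻¹ * a := by group
          rw [inv_inv, e, h.inv_eq (hap p hp), mul_assoc, ← hav _ (hap p hp), inv_mul_cancel_left]
          exact hap p hp }
  refine (le_core (K := K) (fun m hm => hm.1) ?_ ?_) ⟨hx, hxV, hxP⟩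
  · rintro m hm a ⟨ha, hav, hap⟩
    refine ⟨mul_mem (mul_mem hm ha) (inv_mem hm), fun v hv => ?_, fun p hp => ?_⟩
    · have h' := hav _ ((mem_normalizer_iff''.mp hm v).mp hv)
      calc m * a * m⁻¹ * v = m * (a * (m⁻¹ * v * m)) * m⁻¹ := by group
        _ = m * ((m⁻¹ * v * m) * a) * m⁻¹ := by rw [h']
        _ = _ := by group
    · have hp' : m⁻¹ * p * m ∈ part V := by simpa using part_conj (inv_mem hm) hp
      have := (mem_normalizer_iff.mp hm _).mp (hap _ hp')
      convert this using 1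
      group
  · intro ⟨k, hk⟩
    haveI : Fact (Nat.Prime 2) := ⟨Nat.prime_two⟩
    obtain ⟨e, o, ho, hord⟩ := Nat.exists_eq_two_pow_mul_odd (orderOf_pos k).ne'
    refine ⟨e, Subtype.ext ?_⟩
    show k ^ 2 ^ e = 1
    obtain ⟨m, hm⟩ : ∃ m, m = k ^ 2 ^ e := ⟨_, rfl⟩
    rw [← hm]
    have hmo : m ^ o = 1 := by rw [hm, ← pow_mul, ← hord, pow_orderOf_eq_one]
    have hmK : m ∈ K := hm ▸ pow_mem hk _
    obtain ⟨hmn, hmv, hmp⟩ := hmK
    have hmP : ∀ p ∈ part V, m * p * m⁻¹ = p := by
      intro p hp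
      obtain ⟨d, hd⟩ : ∃ d, d = m * p * m⁻¹ * p⁻¹ := ⟨_, rfl⟩
      have hdV : d ∈ V := hd ▸ hmp p hp
      have hpow : ∀ i : ℕ, m ^ i * p * (m ^ i)⁻¹ = d ^ i * p := by
        intro i
        induction i with
        | zero => simp
        | succ i ih =>
          have hc : m * d ^ i = d ^ i * m := hmv _ (pow_mem hdV i)
          calc m ^ (i + 1) * p * (m ^ (i + 1))⁻¹ = m * (m ^ i * p * (m ^ i)⁻¹) * m⁻¹ := by
                rw [pow_succ']; group
            _ = m * d ^ i * p * m⁻¹ := by rw [ih]; group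
            _ = d ^ i * (d * p) := by rw [hc, hd]; group
            _ = _ := by rw [← mul_assoc, ← pow_succ]
      have := hpow o
      obtain ⟨j, rfl⟩ := ho
      rw [hmo, one_mul, inv_one, mul_one, pow_succ, pow_mul, pow_two, h.sq d hdV, one_pow, one_mul,
        eq_comm, mul_eq_right] at this
      rw [hd, mul_inv_eq_one] at this
      exact this
    have hq : ∀ q ∈ core V, m * q = q * m := by
      intro q hq
      obtain ⟨d, hd⟩ : ∃ d, d = m * q * m⁻¹ * q⁻¹ := ⟨_, rfl⟩
      have hdQ : d ∈ core V := hd ▸ mul_mem (core_conj hmn hq) (inv_mem hq)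
      have hqn := core_le_normalizer V hq
      have hdP : ∀ p ∈ part V, d * p * d⁻¹ = p := by
        intro p hp
        have h1 : q⁻¹ * p * q ∈ part V := by simpa using part_conj (inv_mem hqn) hp
        have h2 : m⁻¹ * (q⁻¹ * p * q) * m = q⁻¹ * p * q := by
          conv_lhs => rw [← hmP _ h1]
          group
        calc d * p * d⁻¹ = m * (q * (m⁻¹ * (q⁻¹ * p * q) * m) * q⁻¹) * m⁻¹ := by rw [hd]; group
          _ = m * (q * (q⁻¹ * p * q) * q⁻¹) * m⁻¹ := by rw [h2]
          _ = m * p * m⁻¹ := by group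
          _ = p := hmP p hp
      have hdV : d ∈ V := h.center_part (mem_inf.mpr ⟨hdQ, mem_centralizer_iff.mpr fun v hv => by
          conv_lhs => rw [← hdP v (h.le_part hv)]
          group⟩) fun p hp => mul_inv_eq_iff_eq_mul.mp (hdP p hp)
      have hpow : ∀ i : ℕ, m ^ i * q * (m ^ i)⁻¹ = d ^ i * q := by
        intro i
        induction i with
        | zero => simp
        | succ i ih =>
          have hc : m * d ^ i = d ^ i * m := hmv _ (pow_mem hdV i)
          calc m ^ (i + 1) * q * (m ^ (i + 1))⁻¹ = m * (m ^ i * q * (m ^ i)⁻¹) * m⁻¹ := by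
                rw [pow_succ']; group
            _ = m * d ^ i * q * m⁻¹ := by rw [ih]; group
            _ = d ^ i * (d * q) := by rw [hc, hd]; group
            _ = _ := by rw [← mul_assoc, ← pow_succ]
      have := hpow o
      obtain ⟨j, rfl⟩ := ho
      rw [hmo, one_mul, inv_one, mul_one, pow_succ, pow_mul, pow_two, h.sq d hdV, one_pow, one_mul,
        eq_comm, mul_eq_right] at this
      rw [hd, mul_inv_eq_one] at this
      exact mul_inv_eq_iff_eq_mul.mp this
    have hmc : m ∈ core V := h.cent m hmn hq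
    obtain ⟨j, hj⟩ := core_isPGroup V ⟨m, hmc⟩
    have h2 : m ^ 2 ^ j = 1 := congrArg Subtype.val hj
    have hgcd : Nat.gcd o (2 ^ j) = 1 := Nat.Coprime.pow_right j ho.coprime_two_right
    simpa [hgcd] using pow_gcd_eq_one.mpr ⟨hmo, h2⟩

end Good

end Cfsg.Agent.TimmesfeldTI
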