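import Mathlib

/-!
# Finite linear spaces of invertible matrices closed under quadratic products

An `n`-dimensional space of `n × n` matrices over a finite field containing `1`, closed under
`(e, f) ↦ e f e` and with all nonzero members invertible is commutative: otherwise the generic
element has minimal polynomial of degree `< n` and Chevalley–Warning gives a singular member.
-/

set_option autoImplicit false
set_option linter.unusedSectionVars false
set_option maxHeartbeats 1000000

namespace Cfsg.Agent.TimmesfeldTI

open Polynomial Matrix Module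

theorem totalDegree_det_le {n : ℕ} {K : Type*} [CommRing K]
    (A : Matrix (Fin n) (Fin n) (MvPolynomial (Fin n) K)) (hA : ∀ i j, (A i j).totalDegree ≤ 1) :
    A.det.totalDegree ≤ n := by
  rw [Matrix.det_apply]
  refine (MvPolynomial.totalDegree_finset_sum _ _).trans (Finset.sup_le fun σ _ => ?_)
  refine le_trans ?_ (le_trans ((MvPolynomial.totalDegree_finset_prod Finset.univ
    (fun i => A (σ i) i)).trans (Finset.sum_le_card_nsmul _ _ 1 fun i _ => hA _ _)) (by simp))
  rcases Int.units_eq_one_or (Equiv.Perm.sign σ) with h | h <;> simp [h, MvPolynomial.totalDegree_neg]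

theorem comm_of_invertible_space {K : Type*} [Field K] [Finite K] {n : ℕ}
    (E : Submodule K (Matrix (Fin n) (Fin n) K)) (hn : finrank K E = n) (h1 : 1 ∈ E)
    (hU : ∀ e ∈ E, ∀ f ∈ E, e * f * e ∈ E) (hinv : ∀ e ∈ E, e ≠ 0 → IsUnit e) :
    ∀ e ∈ E, ∀ f ∈ E, e * f = f * e := by
  classical
  haveI := Fintype.ofFinite K
  let R := MvPolynomial (Fin n) K
  let L := FractionRing R
  let b : Basis (Fin n) K E := Module.finBasisOfFinrankEq K E hn
  let ψ : Matrix (Fin n) (Fin n) K →+* Matrix (Fin n) (Fin n) L := (algebraMap K L).mapMatrix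
  let Et : Submodule L (Matrix (Fin n) (Fin n) L) :=
    Submodule.span L (Set.range fun i => ψ (b i : Matrix (Fin n) (Fin n) K))
  have hψs : ∀ (c : K) (x : Matrix (Fin n) (Fin n) K), ψ (c • x) = algebraMap K L c • ψ x := by
    intro c x
    ext i j
    simp [ψ]
  have hψE : ∀ e ∈ E, ψ e ∈ Et := by
    intro e he
    have h := b.sum_repr ⟨e, he⟩
    have h' : (∑ i, b.repr ⟨e, he⟩ i • (b i : Matrix (Fin n) (Fin n) K)) = e := by
      simpa only [AddSubmonoidClass.coe_finsetSum, SetLike.val_smul] using congrArg Subtype.val h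
    rw [← h', map_sum]
    exact Submodule.sum_mem _ fun i _ => by
      rw [hψs]; exact Submodule.smul_mem _ _ (Submodule.subset_span ⟨i, rfl⟩)
  have hT : ∀ x ∈ Et, ∀ y ∈ Et, ∀ z ∈ Et, x * y * z + z * y * x ∈ Et := by
    intro x hx y hy z hz
    induction hx using Submodule.span_induction with
    | zero => simp
    | add a a' _ _ h h' => convert Submodule.add_mem _ h h' using 1; simp only [add_mul, mul_add]; abel
    | smul c a _ h => convert Submodule.smul_mem _ c h using 1; simp [smul_add, smul_mul_assoc, mul_smul_comm]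
    | mem a ha =>
      induction hy using Submodule.span_induction with
      | zero => simp
      | add d d' _ _ h h' => convert Submodule.add_mem _ h h' using 1; simp only [add_mul, mul_add]; abel
      | smul c d _ h => convert Submodule.smul_mem _ c h using 1; simp [smul_add, smul_mul_assoc, mul_smul_comm]
      | mem d hd =>
        induction hz using Submodule.span_induction with
        | zero => simp
        | add g g' _ _ h h' => convert Submodule.add_mem _ h h' using 1; simp only [add_mul, mul_add]; abel
        | smul c g _ h => convert Submodule.smul_mem _ c h using 1; simp [smul_add, smul_mul_assoc, mul_smul_comm]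
        | mem g hg =>
          obtain ⟨i, rfl⟩ := ha
          obtain ⟨j, rfl⟩ := hd
          obtain ⟨k, rfl⟩ := hg
          simp only [← map_mul, ← map_add]
          refine hψE _ ?_
          have h := Submodule.sub_mem _ (Submodule.sub_mem _
            (hU _ (Submodule.add_mem _ (b i).2 (b k).2) _ (b j).2) (hU _ (b i).2 _ (b j).2))
            (hU _ (b k).2 _ (b j).2)
          convert h using 1
          simp only [add_mul, mul_add]; abel
  have hP : ∀ x ∈ Et, ∀ y ∈ Et, x * y * x ∈ Et := by
    intro x hx y hy
    induction hx using Submodule.span_induction with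
    | zero => simp
    | add a a' ha ha' h h' =>
      convert Submodule.add_mem _ (Submodule.add_mem _ h h') (hT a ha y hy a' ha') using 1
      simp only [add_mul, mul_add]; abel
    | smul c a _ h =>
      convert Submodule.smul_mem _ (c * c) h using 1
      simp [smul_mul_assoc, mul_smul_comm, smul_smul]
    | mem a ha =>
      induction hy using Submodule.span_induction with
      | zero => simp
      | add d d' _ _ h h' => convert Submodule.add_mem _ h h' using 1; simp only [add_mul, mul_add]
      | smul c d _ h => convert Submodule.smul_mem _ c h using 1; simp [smul_mul_assoc, mul_smul_comm]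
      | mem d hd =>
        obtain ⟨i, rfl⟩ := ha
        obtain ⟨j, rfl⟩ := hd
        simp only [← map_mul]
        exact hψE _ (hU _ (b i).2 _ (b j).2)
  let MR : Matrix (Fin n) (Fin n) R :=
    ∑ i, (MvPolynomial.X i : R) • ((MvPolynomial.C : K →+* R).mapMatrix (b i : Matrix (Fin n) (Fin n) K))
  let ML : Matrix (Fin n) (Fin n) L := MR.map (algebraMap R L)
  have hML : ML ∈ Et := by
    have e : ML = ∑ i, algebraMap R L (MvPolynomial.X i) • ψ (b i : Matrix (Fin n) (Fin n) K) := by
      ext r s
      simp only [ML, MR, ψ, Matrix.sum_apply, Matrix.map_apply, Matrix.smul_apply,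
        RingHom.mapMatrix_apply, smul_eq_mul, map_sum, map_mul]
      refine Finset.sum_congr rfl fun x _ => ?_
      rw [IsScalarTower.algebraMap_apply K R L, MvPolynomial.algebraMap_eq]
    rw [e]
    exact Submodule.sum_mem _ fun i _ => Submodule.smul_mem _ _ (Submodule.subset_span ⟨i, rfl⟩)
  have hpow : ∀ k, ML ^ k ∈ Et := by
    intro k
    induction k using Nat.twoStepInduction with
    | zero => simpa using hψE 1 h1
    | one => simpa using hML
    | more k ih _ =>
      rw [show ML ^ (k + 2) = ML * ML ^ k * ML by rw [← pow_succ', ← pow_succ]]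
      exact hP _ hML _ ih
  have hint : IsIntegral L ML := Matrix.isIntegral ML
  have hdvd : minpoly L ML ∣ (MR.charpoly).map (algebraMap R L) := by
    rw [← Matrix.charpoly_map]
    exact Matrix.minpoly_dvd_charpoly ML
  have hdeg : (MR.charpoly.map (algebraMap R L)).natDegree = n := by
    rw [(Matrix.charpoly_monic MR).natDegree_map, Matrix.charpoly_natDegree_eq_dim, Fintype.card_fin]
  have hr : (minpoly L ML).natDegree ≤ n :=
    (Polynomial.natDegree_le_of_dvd hdvd ((Matrix.charpoly_monic MR).map _).ne_zero).trans hdeg.le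
  rcases hr.eq_or_lt with hr | hr
  · intro e he f hf
    let S : Submodule L (Matrix (Fin n) (Fin n) L) :=
      Submodule.span L (Set.range fun i : Fin (minpoly L ML).natDegree => ML ^ (i : ℕ))
    have hS : S = Et := by
      refine Submodule.eq_of_le_of_finrank_le
        (Submodule.span_le.mpr (by rintro _ ⟨i, rfl⟩; exact hpow i)) ?_
      rw [finrank_span_eq_card (linearIndependent_pow ML), Fintype.card_fin, hr]
      exact (finrank_range_le_card _).trans (by simp)
    have hc : ∀ x ∈ S, ∀ y ∈ S, x * y = y * x := by
      have h0 : ∀ x ∈ S, Commute x ML := by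
        intro x hx
        induction hx using Submodule.span_induction with
        | zero => exact Commute.zero_left _
        | add a a' _ _ h h' => exact h.add_left h'
        | smul c a _ h => exact h.smul_left c
        | mem a ha => obtain ⟨i, rfl⟩ := ha; exact (Commute.refl ML).pow_left _
      intro x hx y hy
      induction hy using Submodule.span_induction with
      | zero => simp
      | add a a' _ _ h h' => rw [mul_add, add_mul, h, h']
      | smul c a _ h => rw [mul_smul_comm, smul_mul_assoc, h]
      | mem a ha => obtain ⟨i, rfl⟩ := ha; exact ((h0 x hx).pow_right _).eq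
    rw [hS] at hc
    have h := hc _ (hψE e he) _ (hψE f hf)
    rw [← map_mul, ← map_mul] at h
    exact Matrix.map_injective (algebraMap K L).injective h
  exfalso
  obtain ⟨g, hg⟩ := IsIntegrallyClosed.eq_map_mul_C_of_dvd L (Matrix.charpoly_monic MR) hdvd
  rw [(minpoly.monic hint).leadingCoeff, map_one, mul_one] at hg
  have hinj := IsFractionRing.injective R L
  have hgm : g.Monic := Polynomial.monic_of_injective hinj (hg ▸ minpoly.monic hint)
  have hgdeg : g.natDegree = (minpoly L ML).natDegree := by rw [← hg, hgm.natDegree_map]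
  obtain ⟨s, hs⟩ := (Polynomial.map_dvd_map _ hinj hgm).mp (hg.symm ▸ hdvd)
  have hsm : s.Monic := hgm.of_mul_monic_left (hs ▸ Matrix.charpoly_monic MR)
  have hdd : g.natDegree + s.natDegree = n := by
    rw [← hgm.natDegree_mul hsm, ← hs, Matrix.charpoly_natDegree_eq_dim, Fintype.card_fin]
  have hpos : 0 < n := by omega
  haveI : Nonempty (Fin n) := ⟨⟨0, hpos⟩⟩
  have hg1 : 1 ≤ g.natDegree := hgdeg ▸ minpoly.natDegree_pos hint
  have heval : ∀ t : Fin n → K, MR.map (MvPolynomial.eval t) =
      ∑ i, t i • (b i : Matrix (Fin n) (Fin n) K) := by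
    intro t
    ext r c
    simp [MR, Matrix.sum_apply]
  have hX : (MR.charpoly).map (MvPolynomial.eval (0 : Fin n → K)) = Polynomial.X ^ n := by
    rw [← Matrix.charpoly_map, heval]
    simp [Matrix.charpoly_zero]
  have hc0 : ∀ q : R[X], q.Monic → 1 ≤ q.natDegree → q ∣ MR.charpoly →
      MvPolynomial.eval (0 : Fin n → K) (q.coeff 0) = 0 := by
    intro q hq hq1 hqd
    have h := Polynomial.map_dvd (MvPolynomial.eval (0 : Fin n → K)) hqd
    rw [hX] at h
    obtain ⟨j, -, hj⟩ := (dvd_prime_pow Polynomial.prime_X n).mp h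
    have hj' : q.map (MvPolynomial.eval (0 : Fin n → K)) = Polynomial.X ^ j :=
      Polynomial.eq_of_monic_of_associated (hq.map _) (Polynomial.monic_X_pow j) hj
    have hj1 : j = q.natDegree := by
      rw [← hq.natDegree_map (MvPolynomial.eval (0 : Fin n → K)), hj', Polynomial.natDegree_X_pow]
    rw [← Polynomial.coeff_map, hj', Polynomial.coeff_X_pow, if_neg (by omega)]
  have hNdet : MR.det = (-1) ^ n * (g.coeff 0 * s.coeff 0) := by
    rw [Matrix.det_eq_sign_charpoly_coeff, hs, Polynomial.mul_coeff_zero, Fintype.card_fin]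
  have hdet0 : MR.det ≠ 0 := by
    intro h0
    obtain ⟨t, ht⟩ : ∃ t : Fin n → K, ∑ i, t i • (b i : Matrix (Fin n) (Fin n) K) = 1 :=
      ⟨fun i => b.repr ⟨1, h1⟩ i, by
        simpa only [AddSubmonoidClass.coe_finsetSum, SetLike.val_smul] using
          congrArg Subtype.val (b.sum_repr ⟨1, h1⟩)⟩
    have h := congrArg (MvPolynomial.eval t) h0
    rw [RingHom.map_det, RingHom.mapMatrix_apply, heval, ht, Matrix.det_one, map_zero] at h
    exact one_ne_zero h
  have hN0 : g.coeff 0 ≠ 0 := fun h => hdet0 (by rw [hNdet, h]; simp)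
  have hN0' : s.coeff 0 ≠ 0 := fun h => hdet0 (by rw [hNdet, h]; simp)
  have hdegpos : ∀ q : R, q ≠ 0 → MvPolynomial.eval (0 : Fin n → K) q = 0 → 1 ≤ q.totalDegree := by
    intro q hq0 hqe
    by_contra hlt
    have h0 : q.totalDegree = 0 := by omega
    rw [MvPolynomial.totalDegree_eq_zero_iff_eq_C] at h0
    rw [h0, MvPolynomial.eval_C] at hqe
    exact hq0 (by rw [h0, hqe, map_zero])
  have hNlt : (g.coeff 0).totalDegree < Fintype.card (Fin n) := by
    have h2 := hdegpos _ hN0' (hc0 s hsm (by omega) ⟨g, by rw [hs, mul_comm]⟩)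
    have h3 : MR.det.totalDegree ≤ n := totalDegree_det_le MR fun r c => by
      simp only [MR, Matrix.sum_apply, Matrix.smul_apply, RingHom.mapMatrix_apply, Matrix.map_apply,
        smul_eq_mul]
      refine (MvPolynomial.totalDegree_finset_sum _ _).trans (Finset.sup_le fun i _ => ?_)
      refine (MvPolynomial.totalDegree_mul _ _).trans ?_
      simp
    have h4 : MR.det.totalDegree = (g.coeff 0 * s.coeff 0 : R).totalDegree := by
      rcases neg_one_pow_eq_or R n with e | e
      · rw [hNdet, e, one_mul]
      · rw [hNdet, e, neg_one_mul]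
        exact MvPolynomial.totalDegree_neg _
    have h5 : (g.coeff 0 * s.coeff 0 : R).totalDegree =
        (g.coeff 0).totalDegree + (s.coeff 0).totalDegree :=
      MvPolynomial.totalDegree_mul_of_isDomain hN0 hN0'
    rw [Fintype.card_fin]
    omega
  obtain ⟨p, hchar⟩ := CharP.exists K
  haveI := hchar
  haveI : Fact p.Prime := ⟨CharP.char_is_prime K p⟩
  have hdvdp := char_dvd_card_solutions p hNlt
  let S0 := {x : Fin n → K // MvPolynomial.eval x (g.coeff 0) = 0}
  haveI : Nonempty S0 := ⟨⟨0, hc0 g hgm hg1 ⟨s, hs⟩⟩⟩
  obtain ⟨t, ht0⟩ : ∃ t : S0, t ≠ ⟨0, hc0 g hgm hg1 ⟨s, hs⟩⟩ := by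
    refine Fintype.exists_ne_of_one_lt_card ?_ _
    exact lt_of_lt_of_le (Fact.out : p.Prime).one_lt (Nat.le_of_dvd Fintype.card_pos hdvdp)
  let e : Matrix (Fin n) (Fin n) K := ∑ i, t.1 i • (b i : Matrix (Fin n) (Fin n) K)
  have he : e ∈ E := Submodule.sum_mem _ fun i _ => Submodule.smul_mem _ _ (b i).2
  have he0 : e ≠ 0 := by
    intro h0
    refine ht0 (Subtype.ext (funext fun i => ?_))
    have h' : ∑ i, t.1 i • b i = 0 := Subtype.ext (by simpa using h0)
    exact (Fintype.linearIndependent_iff.mp b.linearIndependent) t.1 h' i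
  have hdet : e.det = 0 := by
    show (∑ i, t.1 i • (b i : Matrix (Fin n) (Fin n) K)).det = 0
    rw [← heval, ← RingHom.mapMatrix_apply, ← RingHom.map_det, hNdet, map_mul, map_mul, t.2]
    simp
  exact ((Matrix.isUnit_iff_isUnit_det e).mp (hinv e he he0)).ne_zero hdet

end Cfsg.Agent.TimmesfeldTI
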