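import Cfsg.Agent.TimmesfeldTI.Basic

/-!
# A conjugate of `V` inside the core of its normaliser

The two commute, and together with the part of the core centralising `V` they form a full spread.
-/

set_option autoImplicit false
set_option linter.unusedSectionVars false
set_option maxHeartbeats 400000

namespace Cfsg.Agent.TimmesfeldTI

open Subgroup

variable {G : Type*} [Group G] [Finite G] {V U : Subgroup G}

theorem mem_normalizer_conjS {V : Subgroup G} {g m : G} :
    m ∈ normalizer (conjS V g : Set G) ↔ g⁻¹ * m * g ∈ normalizer (V : Set G) := by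
  simp only [mem_normalizer_iff, mem_conjS]
  constructor
  · intro h v
    have := h (g * v * g⁻¹)
    simpa [mul_assoc] using this
  · intro h y
    have := h (g⁻¹ * y * g)
    simpa [mul_assoc] using this

theorem conjS_normalizer_mem {V : Subgroup G} {x : G} :
    conjS V x = V ↔ x ∈ normalizer (V : Set G) := by
  rw [mem_normalizer_iff]
  constructor
  · intro h v
    conv_rhs => rw [← h, mem_conjS]
    simp [mul_assoc]
  · intro h
    ext y
    rw [mem_conjS, h (x⁻¹ * y * x)]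
    simp [mul_assoc]

theorem conjS_core_le (V : Subgroup G) (g : G) : conjS (core V) g ≤ core (conjS V g) := by
  refine le_core (fun x hx => ?_) (fun m hm x hx => ?_) ((core_isPGroup V).map _)
  · rw [mem_normalizer_conjS]
    exact core_le_normalizer V (mem_conjS.mp hx)
  · rw [mem_conjS] at hx ⊢
    have h := core_conj (mem_normalizer_conjS.mp hm) hx
    simpa [mul_assoc] using h

theorem conjS_core (V : Subgroup G) (g : G) : conjS (core V) g = core (conjS V g) := by
  refine le_antisymm (conjS_core_le V g) fun x hx => ?_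
  have h := conjS_core_le (conjS V g) g⁻¹
  rw [conjS_mul, inv_mul_cancel, conjS_one] at h
  have := h (show g⁻¹ * x * g ∈ conjS (core (conjS V g)) g⁻¹ by rw [mem_conjS]; simpa [mul_assoc] using hx)
  exact mem_conjS.mpr this

theorem Good.conj (h : Good V) (g : G) : Good (conjS V g) := by
  refine ⟨?_, ?_, ?_, ?_, ?_⟩
  · intro a ha b hb
    have := h.comm _ (mem_conjS.mp ha) _ (mem_conjS.mp hb)
    have e := congrArg (fun t => g * t * g⁻¹) this
    simpa [mul_assoc] using e
  · intro a ha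
    have := congrArg (fun t => g * t * g⁻¹) (h.sq _ (mem_conjS.mp ha))
    simpa [mul_assoc] using this
  · intro m hm hq
    rw [← conjS_core] at hq ⊢
    rw [mem_conjS]
    refine h.cent _ (mem_normalizer_conjS.mp hm) fun q hq' => ?_
    have := hq (g * q * g⁻¹) (by rw [mem_conjS]; simpa [mul_assoc] using hq')
    have e := congrArg (fun t => g⁻¹ * t * g) this
    simpa [mul_assoc] using e
  · intro A hVA hAN hab hinv
    have hA : conjS A g⁻¹ = V := by
      refine h.maxab _ (fun v hv => ?_) (fun x hx => ?_) (fun a ha b hb => ?_) (fun m hm a ha => ?_)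
      · rw [mem_conjS]
        exact hVA (by rw [mem_conjS]; simpa [mul_assoc] using hv)
      · have := mem_normalizer_conjS.mp (hAN (mem_conjS.mp hx))
        simpa [mul_assoc] using this
      · have := congrArg (fun t => g⁻¹ * t * g) (hab _ (mem_conjS.mp ha) _ (mem_conjS.mp hb))
        simpa [mul_assoc] using this
      · rw [mem_conjS] at ha ⊢
        have := hinv (g * m * g⁻¹) (mem_normalizer_conjS.mpr (by simpa [mul_assoc] using hm)) _ ha
        simpa [mul_assoc] using this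
    rw [← hA, conjS_mul, mul_inv_cancel, conjS_one]
  · intro x
    rcases h.ti (g⁻¹ * x * g) with e | e
    · left
      calc conjS (conjS V g) x = conjS (conjS V (g⁻¹ * x * g)) g := by
            rw [conjS_mul, conjS_mul]; congr 1; group
        _ = conjS V g := by rw [e]
    · right
      have : conjS (conjS V g) x = conjS (conjS V (g⁻¹ * x * g)) g := by
        rw [conjS_mul, conjS_mul]; congr 1; group
      rw [this, conjS, conjS, ← Subgroup.map_inf _ _ _ (MulAut.conj g).injective]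
      show (conjS V (g⁻¹ * x * g) ⊓ V).map _ = ⊥
      rw [e, Subgroup.map_bot]

/-- A conjugate of `V` lying in the core. -/
structure Pair (V U : Subgroup G) : Prop where
  good : Good V
  isConj : ∃ g, U = conjS V g
  ne : U ≠ V
  le : U ≤ core V

/-- The part of `P` centralising `U`. -/
def fixPart (V U : Subgroup G) : Subgroup G := part V ⊓ centralizer (U : Set G)

namespace Pair

variable (h : Pair V U)
include h

theorem goodU : Good U := by
  obtain ⟨g, rfl⟩ := h.isConj
  exact h.good.conj g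

theorem card_eq : Nat.card U = Nat.card V := by
  obtain ⟨g, rfl⟩ := h.isConj
  exact card_map_of_injective (MulAut.conj g).injective

theorem inf_eq : U ⊓ V = ⊥ := by
  obtain ⟨g, rfl⟩ := h.isConj
  exact (h.good.ti g).resolve_left h.ne

theorem eq_one {x : G} (hU : x ∈ U) (hV : x ∈ V) : x = 1 :=
  (Subgroup.mem_bot).mp (h.inf_eq ▸ mem_inf.mpr ⟨hU, hV⟩)

theorem centralizer_le {u : G} (hu : u ∈ U) (hu1 : u ≠ 1) {x : G} (hx : x * u = u * x) :
    x ∈ normalizer (U : Set G) := by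
  rw [← conjS_normalizer_mem]
  refine (h.goodU.ti x).resolve_right fun e => hu1 (Subgroup.mem_bot.mp (e ▸ mem_inf.mpr ⟨?_, hu⟩))
  rw [mem_conjS, mul_assoc, ← hx, inv_mul_cancel_left]
  exact hu

theorem le_normalizer : U ≤ normalizer (V : Set G) := h.le.trans (core_le_normalizer V)

theorem fixed_comm {x : G} (hx : x ∈ V) (hxN : x ∈ normalizer (U : Set G)) {u : G} (hu : u ∈ U) :
    x * u = u * x := by
  refine mul_inv_eq_iff_eq_mul.mp (mul_inv_eq_one.mp (h.eq_one (x := x * u * x⁻¹ * u⁻¹) ?_ ?_))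
  · exact mul_mem ((mem_normalizer_iff.mp hxN u).mp hu) (inv_mem hu)
  · rw [show x * u * x⁻¹ * u⁻¹ = x * (u * x⁻¹ * u⁻¹) by group]
    exact mul_mem hx ((mem_normalizer_iff.mp (h.le_normalizer hu) _).mp (inv_mem hx))

theorem V_normalizes {v : G} (hv : v ∈ V) : v ∈ normalizer (U : Set G) := by
  by_contra hvN
  let V0 : Subgroup G := V ⊓ normalizer (U : Set G)
  have hc : ∀ w ∈ U, w * v * w⁻¹ * v⁻¹ ∈ V0 := by
    intro w hw
    rcases eq_or_ne w 1 with rfl | hw1
    · simp
    have hVm : w * v * w⁻¹ * v⁻¹ ∈ V :=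
      mul_mem ((mem_normalizer_iff.mp (h.le_normalizer hw) v).mp hv) (inv_mem hv)
    refine mem_inf.mpr ⟨hVm, h.centralizer_le hw hw1 ?_⟩
    have hww : w * w = 1 := h.goodU.sq w hw
    have e : w * (w * v * w⁻¹ * v⁻¹) * w⁻¹ = w * v * w⁻¹ * v⁻¹ := by
      calc w * (w * v * w⁻¹ * v⁻¹) * w⁻¹ = (w * w) * v * w⁻¹ * v⁻¹ * w⁻¹ := by group
        _ = (w * v * w⁻¹ * v⁻¹)⁻¹ := by
          rw [hww, one_mul]; simp only [mul_inv_rev, inv_inv, h.goodU.inv_eq hw, mul_assoc]
        _ = _ := h.good.inv_eq hVm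
    exact (mul_inv_eq_iff_eq_mul.mp e).symm
  let f : ↥U → ↥V0 := fun w => ⟨_, hc w w.2⟩
  have hf : Function.Injective f := by
    intro a b hab
    have e : (a : G) * v * (a : G)⁻¹ = b * v * (b : G)⁻¹ :=
      mul_right_cancel (congrArg Subtype.val hab)
    by_contra hne
    refine hvN (h.centralizer_le (mul_mem (inv_mem b.2) a.2)
      (fun e' => hne (Subtype.ext (inv_mul_eq_one.mp e').symm)) ?_)
    calc v * ((b : G)⁻¹ * a) = (b : G)⁻¹ * (b * v * (b : G)⁻¹) * a := by group
      _ = (b : G)⁻¹ * (a * v * (a : G)⁻¹) * a := by rw [e]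
      _ = _ := by group
  have h1 := Nat.card_le_card_of_injective f hf
  have hle : V ≤ V0 := by
    have := Subgroup.eq_of_le_of_card_ge (inf_le_left : V0 ≤ V) (by rw [← h.card_eq]; exact h1)
    exact this.ge
  exact hvN (hle hv).2

theorem comm {v u : G} (hv : v ∈ V) (hu : u ∈ U) : v * u = u * v :=
  h.fixed_comm hv (h.V_normalizes hv) hu

theorem le_part : U ≤ part V :=
  le_inf h.le fun _ hu => mem_centralizer_iff.mpr fun _ hv => h.comm hv hu

theorem mem_fixPart {y w : G} (hy : y ∈ part V) (hw : w ∈ U) (hw1 : w ≠ 1) (e : y * w = w * y) :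
    y ∈ fixPart V U := by
  refine mem_inf.mpr ⟨hy, mem_centralizer_iff.mpr fun u hu => ?_⟩
  have h1 : y * u * y⁻¹ * u⁻¹ = 1 := h.eq_one
    (mul_mem ((mem_normalizer_iff.mp (h.centralizer_le hw hw1 e) u).mp hu) (inv_mem hu))
    (h.good.commutator_mem hy (h.le_part hu))
  exact (mul_inv_eq_iff_eq_mul.mp (mul_inv_eq_one.mp h1)).symm

theorem conj_pair {m : G} (hm : m ∈ normalizer (V : Set G)) : Pair V (conjS U m) := by
  obtain ⟨g, hg⟩ := h.isConj
  refine ⟨h.good, ⟨m * g, by rw [hg, conjS_mul]⟩, fun e => h.ne ?_, fun x hx => ?_⟩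
  · calc U = conjS (conjS U m) m⁻¹ := by rw [conjS_mul, inv_mul_cancel, conjS_one]
      _ = V := by rw [e, conjS_normalizer_mem.mpr (inv_mem hm)]
  · have := core_conj hm (h.le (mem_conjS.mp hx))
    simpa [mul_assoc] using this

theorem exists_noncomm :
    ∃ U₂, Pair V U₂ ∧ ∃ u ∈ U, ∃ u₂ ∈ U₂, u * u₂ ≠ u₂ * u := by
  by_contra hall
  push Not at hall
  let s : Set G := {x | ∃ m ∈ normalizer (V : Set G), ∃ u ∈ U, x = m * u * m⁻¹}
  let A : Subgroup G := closure ((V : Set G) ∪ s)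
  have hs : ∀ x ∈ s, x ∈ part V := by
    rintro x ⟨m, hm, u, hu, rfl⟩
    exact part_conj hm (h.le_part hu)
  have hU : U ≤ A := fun u hu => subset_closure (Or.inr ⟨1, one_mem _, u, hu, by simp⟩)
  have hA : A = V := by
    refine h.good.maxab A (fun v hv => subset_closure (Or.inl hv)) ?_ ?_ ?_
    · refine (closure_le _).mpr ?_
      rintro x (hx | hx)
      · exact h.good.le_normalizer_self hx
      · exact part_le_normalizer V (hs x hx)
    · have hcm : IsMulCommutative A := isMulCommutative_closure (by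
        rintro a (ha | ha) b (hb | hb)
        · exact h.good.comm a ha b hb
        · exact (h.good.part_central (hs b hb) ha).symm
        · exact h.good.part_central (hs a ha) hb
        · obtain ⟨m, hm, u, hu, rfl⟩ := ha
          obtain ⟨n, hn, u', hu', rfl⟩ := hb
          have e := hall (conjS U (m⁻¹ * n)) (h.conj_pair (mul_mem (inv_mem hm) hn)) u hu
            ((m⁻¹ * n) * u' * (m⁻¹ * n)⁻¹) (by rw [mem_conjS]; simpa [mul_assoc] using hu')
          have e' := congrArg (fun t => m * t * m⁻¹) e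
          simpa [mul_assoc] using e')
      exact fun a ha b hb => congrArg Subtype.val (mul_comm' (⟨a, ha⟩ : A) ⟨b, hb⟩)
    · intro m hm a ha
      refine closure_induction (p := fun y _ => m * y * m⁻¹ ∈ A) ?_ (by simp) ?_ ?_ ha
      · rintro y (hy | ⟨n, hn, u, hu, rfl⟩)
        · exact subset_closure (Or.inl ((mem_normalizer_iff.mp hm y).mp hy))
        · exact subset_closure (Or.inr ⟨m * n, mul_mem hm hn, u, hu, by group⟩)
      · intro y z _ _ hy hz
        have := mul_mem hy hz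
        simpa [mul_assoc] using this
      · intro y _ hy
        have := inv_mem hy
        simpa [mul_assoc] using this
  exact h.ne (Subgroup.eq_of_le_of_card_ge (hA ▸ hU) h.card_eq.ge)

theorem disjoint_partner {U₂ : Subgroup G} (h₂ : Pair V U₂) {u u₂ : G} (hu : u ∈ U) (hu₂ : u₂ ∈ U₂)
    (hne : u * u₂ ≠ u₂ * u) {y : G} (hy : y ∈ fixPart V U) (hyU : y ∈ U₂) : y = 1 := by
  by_contra hy1
  refine hne ?_
  have hy' : u * y = y * u := mem_centralizer_iff.mp hy.2 u hu
  have h1 := h₂.centralizer_le hyU hy1 hy'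
  have e : u * u₂ * u⁻¹ * u₂⁻¹ = 1 := h₂.eq_one
    (mul_mem ((mem_normalizer_iff.mp h1 u₂).mp hu₂) (inv_mem hu₂))
    (h.good.commutator_mem (h.le_part hu) (h₂.le_part hu₂))
  exact mul_inv_eq_iff_eq_mul.mp (mul_inv_eq_one.mp e)

/-- For `w ≠ 1` in `U` the commutators with a noncommuting partner fill `V`. -/
theorem surj {U₂ : Subgroup G} (h₂ : Pair V U₂) (hnc : ∃ u ∈ U, ∃ u₂ ∈ U₂, u * u₂ ≠ u₂ * u)
    {w : G} (hw : w ∈ U) (hw1 : w ≠ 1) {v : G} (hv : v ∈ V) :
    ∃ y ∈ U₂, y * w * y⁻¹ * w⁻¹ = v := by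
  obtain ⟨u, hu, u₂, hu₂, hne⟩ := hnc
  let f : ↥U₂ → ↥V := fun y => ⟨_, h.good.commutator_mem (h₂.le_part y.2) (h.le_part hw)⟩
  have hf : Function.Injective f := by
    intro a b hab
    have e : (a : G) * w * (a : G)⁻¹ = b * w * (b : G)⁻¹ :=
      mul_right_cancel (congrArg Subtype.val hab)
    refine Subtype.ext (inv_mul_eq_one.mp ?_).symm
    refine h.disjoint_partner h₂ hu hu₂ hne ?_ (mul_mem (inv_mem b.2) a.2)
    refine h.mem_fixPart (h₂.le_part (mul_mem (inv_mem b.2) a.2)) hw hw1 ?_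
    calc (b : G)⁻¹ * a * w = (b : G)⁻¹ * (a * w * (a : G)⁻¹) * a := by group
      _ = (b : G)⁻¹ * (b * w * (b : G)⁻¹) * a := by rw [e]
      _ = _ := by group
  have hb := (Nat.bijective_iff_injective_and_card f).mpr ⟨hf, h₂.card_eq⟩
  obtain ⟨y, hy⟩ := hb.2 ⟨v, hv⟩
  exact ⟨y, y.2, congrArg Subtype.val hy⟩

theorem exists_conj_comm {w v : G} (hw : w ∈ U) (hw1 : w ≠ 1) (hv : v ∈ V) :
    ∃ y ∈ part V, y * w * y⁻¹ * w⁻¹ = v := by
  obtain ⟨U₂, h₂, hnc⟩ := h.exists_noncomm
  obtain ⟨y, hy, e⟩ := h.surj h₂ hnc hw hw1 hv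
  exact ⟨y, h₂.le_part hy, e⟩

theorem exists_ne_one : ∃ w ∈ U, w ≠ (1 : G) := by
  by_contra hall
  push Not at hall
  have hU : U = ⊥ := (eq_bot_iff_forall _).mpr hall
  have hV : Nat.card V = 1 := by rw [← h.card_eq, hU, Subgroup.card_bot]
  exact h.ne (hU.trans (Subgroup.eq_bot_of_card_eq V hV).symm)

theorem decompose {U₂ : Subgroup G} (h₂ : Pair V U₂) (hnc : ∃ u ∈ U, ∃ u₂ ∈ U₂, u * u₂ ≠ u₂ * u)
    {p : G} (hp : p ∈ part V) : ∃ y ∈ U₂, y * p ∈ fixPart V U := by
  obtain ⟨w, hw, hw1⟩ := h.exists_ne_one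
  obtain ⟨y, hy, e⟩ := h.surj h₂ hnc hw hw1 (h.good.commutator_mem hp (h.le_part hw))
  refine ⟨y, hy, h.mem_fixPart (mul_mem (h₂.le_part hy) hp) hw hw1 ?_⟩
  have e1 := h.good.comm_mul' (h₂.le_part hy) hp (h.le_part hw)
  rw [e, h.good.sq _ (h.good.commutator_mem hp (h.le_part hw))] at e1
  exact mul_inv_eq_iff_eq_mul.mp (mul_inv_eq_one.mp e1)

/-- The centraliser in `P` of `C_P(U)` is `V U`. -/
theorem eq_mul_of_centralizes {d : G} (hd : d ∈ part V) (hc : ∀ c ∈ fixPart V U, d * c = c * d) :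
    ∃ v ∈ V, ∃ w ∈ U, d = v * w := by
  obtain ⟨U₂, h₂, hnc⟩ := h.exists_noncomm
  have hnc' : ∃ u ∈ U₂, ∃ u' ∈ U, u * u' ≠ u' * u := by
    obtain ⟨u, hu, u₂, hu₂, hne⟩ := hnc
    exact ⟨u₂, hu₂, u, hu, hne.symm⟩
  obtain ⟨u, hu, hu1⟩ := h₂.exists_ne_one
  obtain ⟨w, hw, e⟩ := h₂.surj h hnc' hu hu1 (h.good.commutator_mem hd (h₂.le_part hu))
  have hwd : w * d ∈ part V := mul_mem (h.le_part hw) hd
  have hwdu : w * d ∈ fixPart V U₂ := by
    refine h₂.mem_fixPart hwd hu hu1 ?_
    have e1 := h.good.comm_mul' (h.le_part hw) hd (h₂.le_part hu)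
    rw [e, h.good.sq _ (h.good.commutator_mem hd (h₂.le_part hu))] at e1
    exact mul_inv_eq_iff_eq_mul.mp (mul_inv_eq_one.mp e1)
  have hwv : w * d ∈ V := by
    refine h.good.center_part hwd fun p hp => ?_
    obtain ⟨y, hy, hyp⟩ := h.decompose h₂ hnc hp
    have c1 : w * d * y = y * (w * d) := (mem_centralizer_iff.mp hwdu.2 y hy).symm
    have c2 : w * d * (y * p) = y * p * (w * d) := by
      have a1 := hc _ hyp
      have a2 : w * (y * p) = y * p * w := mem_centralizer_iff.mp hyp.2 w hw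
      rw [mul_assoc, a1, ← mul_assoc, a2, mul_assoc]
    have : y * (w * d * p) = y * (p * (w * d)) := by
      rw [← mul_assoc, ← c1, mul_assoc, c2, mul_assoc]
    exact mul_left_cancel this
  refine ⟨w * d, hwv, w, hw, ?_⟩
  rw [h.comm hwv hw, ← mul_assoc, h.goodU.sq w hw, one_mul]

theorem mem_sup_iff {t : G} : t ∈ V ⊔ U ↔ ∃ v ∈ V, ∃ w ∈ U, t = v * w := by
  refine ⟨fun ht => ?_, fun ⟨v, hv, w, hw, e⟩ => e ▸ mul_mem (mem_sup_left hv) (mem_sup_right hw)⟩
  rw [← SetLike.mem_coe, Subgroup.coe_mul_of_left_le_normalizer_right V U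
    (fun v hv => h.V_normalizes hv), Set.mem_mul] at ht
  obtain ⟨v, hv, w, hw, e⟩ := ht
  exact ⟨v, hv, w, hw, e.symm⟩

/-- Every element of `V U` outside `V` lies in a `P`-conjugate of `U`. -/
theorem cover {v w : G} (hv : v ∈ V) (hw : w ∈ U) (hw1 : w ≠ 1) :
    ∃ y ∈ part V, v * w ∈ conjS U y := by
  obtain ⟨y, hy, e⟩ := h.exists_conj_comm hw hw1 hv
  refine ⟨y, hy, ?_⟩
  rw [mem_conjS, ← e]
  simpa [mul_assoc] using hw

theorem part_conj_le {y : G} (hy : y ∈ part V) : conjS U y ≤ V ⊔ U := by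
  intro t ht
  have hw := mem_conjS.mp ht
  have e : t = (y * (y⁻¹ * t * y) * y⁻¹ * (y⁻¹ * t * y)⁻¹) * (y⁻¹ * t * y) := by group
  rw [e]
  exact mul_mem (mem_sup_left (h.good.commutator_mem hy (h.le_part hw))) (mem_sup_right hw)

end Pair

end Cfsg.Agent.TimmesfeldTI
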